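import Mathlib.LinearAlgebra.Matrix.Charpoly.Coeff
import Mathlib.LinearAlgebra.Matrix.Adjugate
import Mathlib.RingTheory.PowerSeries.Trunc
import Mathlib.RingTheory.PowerSeries.Exp
import Mathlib.RingTheory.PowerSeries.Substitution
import Mathlib.RingTheory.PowerSeries.Derivative

/-!
Power series identities between characteristic polynomials, traces of powers and exponentials.
-/

set_option autoImplicit false
universe u v

open PowerSeries

namespace Groth.L11.Newton

section
open Polynomial

theorem derivative_det' {R : Type*} [CommRing R] {m : Type*} [Fintype m] [DecidableEq m]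
    (B : Matrix m m (Polynomial R)) :
    Polynomial.derivative B.det = (B.adjugate * B.map (fun p => Polynomial.derivative p)).trace := by
  have h1 : Polynomial.derivative B.det =
      ∑ i, (B.updateRow i (fun j => Polynomial.derivative (B i j))).det := by
    rw [Matrix.det_apply', map_sum]
    simp only [Matrix.det_apply']
    rw [Finset.sum_comm]
    refine Finset.sum_congr rfl fun σ _ => ?_
    rw [← zsmul_eq_mul, map_zsmul, Polynomial.derivative_prod_finset, zsmul_eq_mul, Finset.mul_sum]
    -- index the derivative by rows instead of columns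
    refine Fintype.sum_equiv σ _ _ fun j => ?_
    congr 1
    rw [← Finset.prod_erase_mul Finset.univ
      (fun k => B.updateRow (σ j) (fun l => Polynomial.derivative (B (σ j) l)) (σ k) k) (Finset.mem_univ j)]
    rw [Matrix.updateRow_self]
    congr 1
    refine Finset.prod_congr rfl fun k hk => ?_
    rw [Matrix.updateRow_ne (fun h => (Finset.mem_erase.1 hk).1 (σ.injective h))]
  rw [h1, Matrix.trace_mul_comm]
  refine Finset.sum_congr rfl fun i _ => ?_
  rw [← Matrix.cramer_transpose_apply, Matrix.cramer_eq_adjugate_mulVec, ← Matrix.adjugate_transpose,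
    Matrix.mulVec, dotProduct, Matrix.diag_apply, Matrix.mul_apply]
  exact Finset.sum_congr rfl fun j _ => mul_comm _ _

/-- Newton's identities as power series (the argument of S3134 over any universe). -/
theorem neg_X_mul_derivative_charpolyRev (R : Type u) [CommRing R] (m : Type v) [Fintype m] [DecidableEq m]
    (A : Matrix m m R) :
    ((-(Polynomial.X * Polynomial.derivative A.charpolyRev) : R[X]) : PowerSeries R) =
      (A.charpolyRev : PowerSeries R) * PowerSeries.mk (fun n => if n = 0 then 0 else (A ^ n).trace) := by
  classical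
  let φ : R[X] →+* PowerSeries R := Polynomial.coeToPowerSeries.ringHom
  let B : Matrix m m R[X] := 1 - (Polynomial.X : R[X]) • A.map Polynomial.C
  let G : Matrix m m (PowerSeries R) := Matrix.of fun i j => PowerSeries.mk fun n => (A ^ n) i j
  have hcoeff : ∀ (n : ℕ) (M : Matrix m m (PowerSeries R)) (i j : m),
      PowerSeries.coeff n (((PowerSeries.X : PowerSeries R) • M) i j) = if n = 0 then 0 else PowerSeries.coeff (n - 1) (M i j) := by
    intro n M i j
    rw [Matrix.smul_apply, smul_eq_mul]
    rcases n with _ | n
    · simp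
    · simp [PowerSeries.coeff_succ_X_mul]
  have hBmap : φ.mapMatrix B = 1 - (PowerSeries.X : PowerSeries R) • A.map PowerSeries.C := by
    ext i j n
    simp [B, φ, Matrix.one_apply, apply_ite, Polynomial.coe_one, Polynomial.coe_zero]
    ring
  have hBG : φ.mapMatrix B * G = 1 := by
    refine Matrix.ext fun i j => PowerSeries.ext fun n => ?_
    rw [hBmap, Matrix.sub_mul, one_mul, Matrix.smul_mul, Matrix.sub_apply, map_sub, hcoeff]
    rcases n with _ | n
    · rw [if_pos rfl, sub_zero, show G i j = PowerSeries.mk (fun n => (A ^ n) i j) from rfl,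
        PowerSeries.coeff_mk, pow_zero, Matrix.one_apply, Matrix.one_apply]
      by_cases h : i = j
      · rw [if_pos h, if_pos h, PowerSeries.coeff_zero_eq_constantCoeff, map_one]
      · rw [if_neg h, if_neg h, map_zero]
    · simp only [G, Matrix.of_apply, PowerSeries.coeff_mk, Nat.succ_ne_zero, if_false, Nat.add_sub_cancel,
        Matrix.mul_apply, Matrix.map_apply, map_sum, PowerSeries.coeff_C_mul]
      rw [pow_succ', Matrix.mul_apply, sub_self]
      by_cases h : i = j <;> simp [Matrix.one_apply, h, PowerSeries.coeff_one]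
  have hadj : φ.mapMatrix B.adjugate = (A.charpolyRev : PowerSeries R) • G := by
    have h2 : φ.mapMatrix B.adjugate * φ.mapMatrix B = (A.charpolyRev : PowerSeries R) • 1 := by
      rw [← map_mul, Matrix.adjugate_mul]
      ext i j : 1
      by_cases h : i = j <;> simp [h, Matrix.one_apply, B, φ, Matrix.charpolyRev]
    calc φ.mapMatrix B.adjugate = φ.mapMatrix B.adjugate * (φ.mapMatrix B * G) := by rw [hBG, mul_one]
      _ = _ := by rw [← mul_assoc, h2, Matrix.smul_mul, one_mul]
  have hder : B.map (fun p => Polynomial.derivative p) = -A.map Polynomial.C := by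
    ext i j : 1
    by_cases h : i = j <;> simp [h, B, Matrix.one_apply]
  have hd : Polynomial.derivative A.charpolyRev = -(B.adjugate * A.map Polynomial.C).trace := by
    rw [← Matrix.trace_neg, ← Matrix.mul_neg, ← hder]
    exact derivative_det' B
  rw [hd, mul_neg, neg_neg]
  show φ (Polynomial.X * (B.adjugate * A.map Polynomial.C).trace) = _
  rw [map_mul, show φ Polynomial.X = PowerSeries.X from Polynomial.coe_X,
    show φ (B.adjugate * A.map Polynomial.C).trace = (φ.mapMatrix (B.adjugate * A.map Polynomial.C)).trace by
      exact AddMonoidHom.map_trace φ _, map_mul φ.mapMatrix, hadj, Matrix.smul_mul, Matrix.trace_smul, smul_eq_mul, mul_left_comm]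
  congr 1
  refine PowerSeries.ext fun n => ?_
  rcases n with _ | n
  · simp
  · rw [PowerSeries.coeff_succ_X_mul, PowerSeries.coeff_mk, if_neg (Nat.succ_ne_zero n), pow_succ]
    simp [Matrix.trace, Matrix.mul_apply, G, φ, map_sum, PowerSeries.coeff_mul_C]

end

variable {K : Type u} [Field K] [CharZero K]

omit [CharZero K] in
/-- `(log det (1 - t A))' = - Σ tr (A^(m+1)) t^m`. -/
theorem derivative_charpolyRev {m : Type v} [Fintype m] [DecidableEq m] (A : Matrix m m K) :
    d⁄dX K (A.charpolyRev : PowerSeries K) =
      (A.charpolyRev : PowerSeries K) * PowerSeries.mk (fun n => -(A ^ (n + 1)).trace) := by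
  have h := neg_X_mul_derivative_charpolyRev K m A
  have h2 : (PowerSeries.mk fun n => if n = 0 then 0 else (A ^ n).trace) =
      -(PowerSeries.X * PowerSeries.mk (fun n => -(A ^ (n + 1)).trace)) := by
    ext n
    rcases n with _ | n
    · simp
    · simp [PowerSeries.coeff_succ_X_mul]
  rw [h2, Polynomial.coe_neg, Polynomial.coe_mul, Polynomial.coe_X, mul_neg, neg_inj, mul_left_comm,
    ← PowerSeries.derivative_coe] at h
  exact mul_left_cancel₀ PowerSeries.X_ne_zero h

/-- A power series is determined by its constant term and logarithmic derivative. -/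
theorem ext_of_logDeriv {u v h : PowerSeries K} (h0 : PowerSeries.coeff 0 u = PowerSeries.coeff 0 v)
    (hu : d⁄dX K u = u * h) (hv : d⁄dX K v = v * h) : u = v := by
  ext n
  induction n using Nat.strong_induction_on with
  | _ n ih =>
    rcases n with _ | n
    · exact h0
    · have eu := congrArg (PowerSeries.coeff n) hu
      have ev := congrArg (PowerSeries.coeff n) hv
      rw [PowerSeries.coeff_derivative, PowerSeries.coeff_mul] at eu ev
      rw [Finset.sum_congr rfl fun p hp => (by
        rw [ih p.1 (by rw [Finset.mem_antidiagonal] at hp; omega)] :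
        PowerSeries.coeff p.1 u * PowerSeries.coeff p.2 h = PowerSeries.coeff p.1 v * PowerSeries.coeff p.2 h)] at eu
      exact mul_right_cancel₀ (Nat.cast_add_one_ne_zero n) (eu.trans ev.symm)

theorem hasSubst_mk_div (a : ℕ → K) : PowerSeries.HasSubst (PowerSeries.mk fun m : ℕ => a m / (m : K)) :=
  PowerSeries.HasSubst.of_constantCoeff_zero' (by simp [← PowerSeries.coeff_zero_eq_constantCoeff_apply])

theorem coeff_zero_subst {g : PowerSeries K} (hg : PowerSeries.coeff 0 g = 0) (f : PowerSeries K) :
    PowerSeries.coeff 0 (PowerSeries.subst g f) = PowerSeries.coeff 0 f := by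
  have hs : PowerSeries.HasSubst g :=
    PowerSeries.HasSubst.of_constantCoeff_zero' (by rwa [← PowerSeries.coeff_zero_eq_constantCoeff_apply])
  rw [PowerSeries.coeff_subst' hs, finsum_eq_single _ 0 fun d hd => by
    rw [PowerSeries.coeff_zero_eq_constantCoeff_apply (φ := g ^ d), map_pow,
      ← PowerSeries.coeff_zero_eq_constantCoeff_apply, hg, zero_pow hd, smul_zero]]
  simp

theorem coeff_zero_exp_subst {g : PowerSeries K} (hg : PowerSeries.coeff 0 g = 0) :
    PowerSeries.coeff 0 (PowerSeries.subst g (PowerSeries.exp K)) = 1 :=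
  (coeff_zero_subst hg _).trans (by simp)

/-- `(exp (Σ a_m t^m / m))' = exp (Σ a_m t^m / m) · Σ a_(m+1) t^m`. -/
theorem derivative_exp_subst (a : ℕ → K) :
    d⁄dX K (PowerSeries.subst (PowerSeries.mk fun m : ℕ => a m / (m : K)) (PowerSeries.exp K)) =
      PowerSeries.subst (PowerSeries.mk fun m : ℕ => a m / (m : K)) (PowerSeries.exp K) *
        PowerSeries.mk (fun n => a (n + 1)) := by
  rw [PowerSeries.derivative_subst (hasSubst_mk_div a), PowerSeries.derivative_exp]
  congr 1
  ext n
  rw [PowerSeries.coeff_derivative, PowerSeries.coeff_mk, PowerSeries.coeff_mk, Nat.cast_succ,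
    div_mul_cancel₀ _ (Nat.cast_add_one_ne_zero n)]

/-- `det (1 - t A) = exp (- Σ tr (A^m) t^m / m)`. -/
theorem charpolyRev_eq_exp {m : Type v} [Fintype m] [DecidableEq m] (A : Matrix m m K) :
    (A.charpolyRev : PowerSeries K) =
      PowerSeries.subst (PowerSeries.mk fun n : ℕ => -(A ^ n).trace / (n : K)) (PowerSeries.exp K) :=
  ext_of_logDeriv (by
      rw [coeff_zero_exp_subst (by simp), Polynomial.coeff_coe, Polynomial.coeff_zero_eq_eval_zero]
      exact Matrix.eval_charpolyRev)
    (derivative_charpolyRev A) (derivative_exp_subst fun n => -(A ^ n).trace)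

end Groth.L11.Newton
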