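import Groth.Prelude.Def_W4c1zetahwZeta
import Groth.Prelude.Def_SgaExt
import Groth.Agent.L22.SchemeDim
import Groth.Agent.L22.FibreDim
import Mathlib.AlgebraicGeometry.Morphisms.Finite
import Mathlib.FieldTheory.Finite.Basic
import Mathlib.FieldTheory.PrimitiveElement
import Mathlib.FieldTheory.IsAlgClosed.AlgebraicClosure

/-!
Points of a scheme over a finite field with values in an algebraically closed field, fixed by a power of Frobenius.
-/

set_option autoImplicit false
universe u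

open AlgebraicGeometry CategoryTheory

namespace Groth.L11.Points

attribute [local instance] Curv2.resAlgebra

/-- The embeddings of a field into `k` fixed by the `m`-th power of Frobenius. -/
def Fixed (k₀ : Type u) [Field k₀] (k : Type u) [Field k] [Algebra k₀ k] (L : Type u) [Field L] [Algebra k₀ L]
    (m : ℕ) :=
  {ψ : L →ₐ[k₀] k // ∀ a, ψ a ^ (Nat.card k₀ ^ m) = ψ a}

variable {k₀ : Type u} [Field k₀] [Finite k₀] {k : Type u} [Field k] [Algebra k₀ k]

theorem pow_fixed_iff (L : Type u) [Field L] [Algebra k₀ L] [Finite L] (m : ℕ) :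
    (∀ a : L, a ^ (Nat.card k₀ ^ m) = a) ↔ Module.finrank k₀ L ∣ m := by
  haveI := Fintype.ofFinite k₀
  rw [← FiniteField.orderOf_frobeniusAlgHom k₀ L, orderOf_dvd_iff_pow_eq_one, DFunLike.ext_iff]
  refine forall_congr' fun a => ?_
  rw [AlgHom.coe_pow, FiniteField.coe_frobeniusAlgHom, pow_iterate, AlgHom.one_apply, Fintype.card_eq_nat_card]

theorem finite_fixed_set {m : ℕ} (hm : 0 < m) : {c : k | c ^ (Nat.card k₀ ^ m) = c}.Finite := by
  classical
  have h1 : 1 < Nat.card k₀ ^ m := Nat.one_lt_pow hm.ne' Finite.one_lt_card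
  refine ((Polynomial.X ^ (Nat.card k₀ ^ m) - Polynomial.X : Polynomial k).roots.toFinset.finite_toSet).subset
    fun c hc => ?_
  simp only [Finset.mem_coe, Multiset.mem_toFinset,
    Polynomial.mem_roots (FiniteField.X_pow_card_sub_X_ne_zero k h1)]
  simp [Set.mem_setOf_eq ▸ hc]

theorem finiteDimensional_of_fixed (L : Type u) [Field L] [Algebra k₀ L] {m : ℕ} (hm : 0 < m)
    (ψ : Fixed k₀ k L m) : FiniteDimensional k₀ L := by
  haveI := (finite_fixed_set (k₀ := k₀) (k := k) hm).to_subtype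
  haveI : Finite L := Finite.of_injective (fun a => (⟨ψ.1 a, ψ.2 a⟩ : {c : k | c ^ (Nat.card k₀ ^ m) = c}))
    fun a b h => ψ.1.injective (congrArg Subtype.val h)
  exact Module.Finite.of_finite

theorem dvd_of_fixed (L : Type u) [Field L] [Algebra k₀ L] {m : ℕ} (hm : 0 < m) (ψ : Fixed k₀ k L m) :
    Module.finrank k₀ L ∣ m := by
  haveI := finiteDimensional_of_fixed L hm ψ
  haveI : Finite L := Module.finite_of_finite k₀
  exact (pow_fixed_iff L m).mp fun a => ψ.1.injective (by rw [map_pow]; exact ψ.2 a)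

theorem card_fixed [IsAlgClosed k] (L : Type u) [Field L] [Algebra k₀ L] [FiniteDimensional k₀ L] {m : ℕ}
    (h : Module.finrank k₀ L ∣ m) : Nat.card (Fixed k₀ k L m) = Module.finrank k₀ L := by
  haveI : Finite L := Module.finite_of_finite k₀
  rw [← AlgHom.card k₀ L k, ← Nat.card_eq_fintype_card]
  exact Nat.card_congr (Equiv.subtypeUnivEquiv fun ψ a => by rw [← map_pow, (pow_fixed_iff L m).mpr h a])

variable {X : Scheme.{u}} [X.Over (Spec (CommRingCat.of k₀))]
  [LocallyOfFiniteType (X ↘ Spec (CommRingCat.of k₀))]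

omit [Finite k₀] in
theorem isClosed_iff_finite (y : X) : IsClosed ({y} : Set X) ↔ FiniteDimensional k₀ (X.residueField y) := by
  haveI : JacobsonSpace X := LocallyOfFiniteType.jacobsonSpace (X ↘ Spec (CommRingCat.of k₀))
  rw [isClosed_singleton_iff_locallyOfFiniteType]
  have e := Groth.L22.FibreDim.SpecMap_resMap k₀ X y
  constructor
  · intro h
    haveI : LocallyOfFiniteType (Spec.map (CommRingCat.ofHom (Curv2.resMap k₀ X y))) := by rw [e]; infer_instance
    have hf := isFinite_iff_locallyOfFiniteType_of_jacobsonSpace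
      (f := Spec.map (CommRingCat.ofHom (Curv2.resMap k₀ X y))) |>.mpr inferInstance
    rw [IsFinite.SpecMap_iff] at hf
    exact RingHom.finite_algebraMap.mp hf
  · intro h
    haveI : IsFinite (Spec.map (CommRingCat.ofHom (Curv2.resMap k₀ X y))) := by
      rw [IsFinite.SpecMap_iff]
      exact RingHom.finite_algebraMap.mpr h
    haveI : LocallyOfFiniteType (X.fromSpecResidueField y ≫ (X ↘ Spec (CommRingCat.of k₀))) := by
      rw [← e]; infer_instance
    exact locallyOfFiniteType_of_comp _ (X ↘ Spec (CommRingCat.of k₀))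

theorem residueDegree_eq (y : X) :
    EGA4loc.residueDegree (X ↘ Spec (CommRingCat.of k₀)) y = Module.finrank k₀ (X.residueField y) := by
  set f := X ↘ Spec (CommRingCat.of k₀)
  letI : (Spec (CommRingCat.of k₀)).Over (Spec (CommRingCat.of k₀)) := ⟨𝟙 _⟩
  letI := (f.residueFieldMap y).hom.toAlgebra
  have hbij : Function.Bijective (Curv2.resMap k₀ (Spec (CommRingCat.of k₀)) (f.base y)) := by
    haveI : Subsingleton ↥(Spec (CommRingCat.of k₀)) := inferInstanceAs (Subsingleton (PrimeSpectrum k₀))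
    obtain ⟨⟨pt, ψ⟩, hψ⟩ := (Scheme.SpecToEquivOfField k₀ (Spec (CommRingCat.of k₀))).symm.surjective (𝟙 _)
    change Spec.map ψ ≫ (Spec (CommRingCat.of k₀)).fromSpecResidueField pt = 𝟙 _ at hψ
    obtain rfl : pt = f.base y := Subsingleton.elim _ _
    have h := Groth.L22.FibreDim.SpecMap_resMap k₀ (Spec (CommRingCat.of k₀)) (f.base y)
    rw [show (Spec (CommRingCat.of k₀) ↘ Spec (CommRingCat.of k₀)) = 𝟙 _ from rfl, Category.comp_id] at h
    have hcomp : CommRingCat.ofHom (Curv2.resMap k₀ (Spec (CommRingCat.of k₀)) (f.base y)) ≫ ψ = 𝟙 _ := by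
      apply Spec.map_injective
      rw [Spec.map_comp, h, hψ, Spec.map_id]
    refine ⟨RingHom.injective _, fun z => ⟨ψ.hom z, ψ.hom.injective ?_⟩⟩
    exact congrArg (fun φ => φ.hom (ψ.hom z)) hcomp
  refine Algebra.finrank_eq_of_equiv_equiv (RingEquiv.ofBijective _ hbij).symm (RingEquiv.refl _) ?_
  refine RingHom.ext fun z => ?_
  obtain ⟨c, rfl⟩ := hbij.2 z
  have hc : CommRingCat.ofHom (Curv2.resMap k₀ (Spec (CommRingCat.of k₀)) (f.base y)) ≫ f.residueFieldMap y =
      CommRingCat.ofHom (Curv2.resMap k₀ X y) := by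
    apply Spec.map_injective
    rw [Spec.map_comp, Groth.L22.FibreDim.SpecMap_resMap, Groth.L22.FibreDim.SpecMap_resMap,
      Scheme.Hom.SpecMap_residueFieldMap_fromSpecResidueField_assoc]
    exact congrArg _ (Category.comp_id _)
  have hs : (RingEquiv.ofBijective _ hbij).symm (Curv2.resMap k₀ (Spec (CommRingCat.of k₀)) (f.base y) c) = c :=
    (RingEquiv.ofBijective _ hbij).symm_apply_apply c
  change algebraMap k₀ (X.residueField y) ((RingEquiv.ofBijective _ hbij).symm
    (Curv2.resMap k₀ (Spec (CommRingCat.of k₀)) (f.base y) c)) = _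
  rw [hs]
  exact (congrArg (fun φ => φ.hom c) hc).symm

variable [CompactSpace X]

/-- Finitely many closed points have a given degree. -/
theorem finite_dvd {m : ℕ} (hm : 0 < m) :
    {y : X | IsClosed ({y} : Set X) ∧ Module.finrank k₀ (X.residueField y) ∣ m}.Finite := by
  classical
  set K := AlgebraicClosure k₀
  obtain ⟨s, -, hsfin, hcov⟩ := isCompact_univ.elim_finite_subcover_image (b := (Set.univ : Set X.affineOpens))
    (c := fun U => ((U : X.Opens) : Set X)) (fun U _ => U.1.2) (fun x _ => by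
      obtain ⟨_, ⟨U, hU, rfl⟩, hxU, -⟩ := X.isBasis_affineOpens.exists_subset_of_mem_open (Set.mem_univ x) isOpen_univ
      exact Set.mem_biUnion (x := (⟨U, hU⟩ : X.affineOpens)) trivial hxU)
  refine (hsfin.biUnion (t := fun U : X.affineOpens =>
    {y : X | y ∈ U.1 ∧ IsClosed ({y} : Set X) ∧ Module.finrank k₀ (X.residueField y) ∣ m}) fun U _ => ?_).subset
    (fun y hy => by
      obtain ⟨U, hU, hyU⟩ := Set.mem_iUnion₂.mp (hcov (Set.mem_univ y))
      exact Set.mem_biUnion hU ⟨hyU, hy⟩)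
  letI : Algebra k₀ Γ(X, U.1) := (Groth.L22.SchemeDim.sectHom k₀ X U.1).toAlgebra
  haveI : Algebra.FiniteType k₀ Γ(X, U.1) :=
    RingHom.finiteType_algebraMap.1 (Groth.L22.SchemeDim.finiteType_sectHom k₀ X U.2)
  obtain ⟨G, hG⟩ := (inferInstance : Algebra.FiniteType k₀ Γ(X, U.1)).out
  haveI := (finite_fixed_set (k₀ := k₀) (k := K) hm).to_subtype
  haveI : Finite {φ : Γ(X, U.1) →ₐ[k₀] K // ∀ a, φ a ^ (Nat.card k₀ ^ m) = φ a} :=
    Finite.of_injective (fun φ => fun g : G => (⟨φ.1 g.1, φ.2 g.1⟩ : {c : K | c ^ (Nat.card k₀ ^ m) = c}))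
      fun φ φ' h => Subtype.ext (AlgHom.ext_of_adjoin_eq_top hG fun g hg =>
        congrArg Subtype.val (congrFun h ⟨g, hg⟩))
  have hex : ∀ y : {y : X | y ∈ U.1 ∧ IsClosed ({y} : Set X) ∧ Module.finrank k₀ (X.residueField y) ∣ m},
      ∃ φ : {φ : Γ(X, U.1) →ₐ[k₀] K // ∀ a, φ a ^ (Nat.card k₀ ^ m) = φ a},
        ∀ r, φ.1 r = 0 ↔ y.1 ∉ X.basicOpen r := fun ⟨y, hyU, hyc, hdvd⟩ => by
    haveI := (isClosed_iff_finite (k₀ := k₀) y).mp hyc
    haveI : Finite (X.residueField y) := Module.finite_of_finite k₀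
    let ev : Γ(X, U.1) →ₐ[k₀] X.residueField y :=
      { (X.evaluation U.1 y hyU).hom with
        commutes' := fun c => (RingHom.congr_fun (Groth.L22.SchemeDim.resMap_eq k₀ X hyU) c).symm }
    let ψ : X.residueField y →ₐ[k₀] K := IsAlgClosed.lift
    refine ⟨⟨ψ.comp ev, fun a => by rw [AlgHom.comp_apply, ← map_pow, (pow_fixed_iff _ m).mpr hdvd]⟩, fun r => ?_⟩
    rw [← X.evaluation_eq_zero_iff_notMem_basicOpen y hyU]
    change ψ (ev r) = 0 ↔ _
    rw [map_eq_zero]
    rfl
  choose φ hφ using hex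
  refine Set.finite_coe_iff.mp (Finite.of_injective φ fun y y' h => Subtype.ext ?_)
  have key : ∀ r, y.1 ∈ X.basicOpen r ↔ y'.1 ∈ X.basicOpen r := fun r => by
    rw [← not_iff_not, ← hφ y r, ← hφ y' r, h]
  refine (Inseparable.eq (inseparable_iff_forall_isOpen.mpr fun W hW => ?_))
  constructor <;> intro hy
  · obtain ⟨r, hr, hyr⟩ := U.2.exists_basicOpen_le (V := ⟨W, hW⟩) ⟨y.1, hy⟩ y.2.1
    exact hr ((key r).mp hyr)
  · obtain ⟨r, hr, hyr⟩ := U.2.exists_basicOpen_le (V := ⟨W, hW⟩) ⟨y'.1, hy⟩ y'.2.1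
    exact hr ((key r).mpr hyr)

theorem card_sigma_fixed [IsAlgClosed k] {m : ℕ} (hm : 0 < m) :
    Finite (Σ y : X, Fixed k₀ k (X.residueField y) m) ∧
      Nat.card (Σ y : X, Fixed k₀ k (X.residueField y) m) = Zeta.nPts (X ↘ Spec (CommRingCat.of k₀)) m := by
  classical
  set T := {y : X | IsClosed ({y} : Set X) ∧ Module.finrank k₀ (X.residueField y) ∣ m}
  haveI : Fintype T := (finite_dvd (k₀ := k₀) hm).fintype
  have hmem : ∀ z : Σ y : X, Fixed k₀ k (X.residueField y) m, z.1 ∈ T := fun z =>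
    ⟨(isClosed_iff_finite (k₀ := k₀) z.1).mpr (finiteDimensional_of_fixed _ hm z.2), dvd_of_fixed _ hm z.2⟩
  let e : (Σ y : X, Fixed k₀ k (X.residueField y) m) ≃ Σ y : T, Fixed k₀ k (X.residueField y.1) m :=
    { toFun := fun z => ⟨⟨z.1, hmem z⟩, z.2⟩
      invFun := fun z => ⟨z.1.1, z.2⟩
      left_inv := fun z => rfl
      right_inv := fun z => rfl }
  have hcard : ∀ y : T, Nat.card (Fixed k₀ k (X.residueField y.1) m) = Module.finrank k₀ (X.residueField y.1) :=
    fun y => haveI := (isClosed_iff_finite (k₀ := k₀) y.1).mp y.2.1; card_fixed _ y.2.2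
  haveI : ∀ y : T, Finite (Fixed k₀ k (X.residueField y.1) m) := fun y => by
    haveI := (isClosed_iff_finite (k₀ := k₀) y.1).mp y.2.1
    exact Nat.finite_of_card_ne_zero (by rw [hcard]; exact Module.finrank_pos.ne')
  refine ⟨Finite.of_equiv _ e.symm, ?_⟩
  rw [Nat.card_congr e, Nat.card_sigma, Finset.sum_congr rfl fun y _ => hcard y, Zeta.nPts,
    ← Finset.sum_fiberwise_of_maps_to (s := (Finset.univ : Finset T)) (t := m.divisors)
      (g := fun y => Module.finrank k₀ (X.residueField y.1))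
      (fun y _ => Nat.mem_divisors.mpr ⟨y.2.2, hm.ne'⟩)]
  refine Finset.sum_congr rfl fun d hd => ?_
  rw [Finset.sum_congr rfl (fun y hy => (Finset.mem_filter.mp hy).2), Finset.sum_const, smul_eq_mul, mul_comm,
    Zeta.degCount]
  congr 1
  rw [← Fintype.card_coe, ← Nat.card_eq_fintype_card]
  exact Nat.card_congr
    { toFun := fun y => ⟨y.1.1, y.1.2.1, (residueDegree_eq _).trans (Finset.mem_filter.mp y.2).2⟩
      invFun := fun x => ⟨⟨x.1, x.2.1, ((residueDegree_eq _).symm.trans x.2.2).symm ▸ (Nat.mem_divisors.mp hd).1⟩,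
        Finset.mem_filter.mpr ⟨Finset.mem_univ _, (residueDegree_eq _).symm.trans x.2.2⟩⟩
      left_inv := fun y => rfl
      right_inv := fun x => rfl }

omit [CompactSpace X] in
/-- The `m`-th power of Frobenius on `k`. -/
noncomputable def frobPow (k : Type u) [Field k] [Algebra k₀ k] (m : ℕ) : k →+* k :=
  letI := Fintype.ofFinite k₀
  ((FiniteField.frobeniusAlgHom k₀ k) ^ m : k →ₐ[k₀] k).toRingHom

theorem frobPow_apply (m : ℕ) (c : k) : frobPow (k₀ := k₀) k m c = c ^ (Nat.card k₀ ^ m) := by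
  letI := Fintype.ofFinite k₀
  change ((FiniteField.frobeniusAlgHom k₀ k) ^ m : k →ₐ[k₀] k) c = _
  rw [AlgHom.coe_pow, FiniteField.coe_frobeniusAlgHom, pow_iterate, Fintype.card_eq_nat_card]

variable (X) in
/-- A point with values in `k` as a point of the scheme and an embedding of its residue field. -/
noncomputable def toPoint (z : Σ y : X, X.residueField y →ₐ[k₀] k) :
    {h : Spec (CommRingCat.of k) ⟶ X //
      h ≫ (X ↘ Spec (CommRingCat.of k₀)) = Spec.map (CommRingCat.ofHom (algebraMap k₀ k))} :=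
  ⟨(Scheme.SpecToEquivOfField k X).symm ⟨z.1, CommRingCat.ofHom z.2.toRingHom⟩, by
    change (Spec.map (CommRingCat.ofHom z.2.toRingHom) ≫ X.fromSpecResidueField z.1) ≫ _ = _
    rw [Category.assoc, ← Groth.L22.FibreDim.SpecMap_resMap, ← Spec.map_comp, ← CommRingCat.ofHom_comp]
    exact congrArg (fun φ => Spec.map (CommRingCat.ofHom φ)) (RingHom.ext z.2.commutes)⟩

variable (X) in
omit [LocallyOfFiniteType (X ↘ Spec (CommRingCat.of k₀))] [CompactSpace X] [Finite k₀] in
theorem toPoint_bijective : Function.Bijective (toPoint (k₀ := k₀) (k := k) X) := by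
  refine ⟨fun z z' h => ?_, fun ⟨h, hh⟩ => ?_⟩
  · obtain ⟨y, ψ⟩ := z
    obtain ⟨y', ψ'⟩ := z'
    have := (Scheme.SpecToEquivOfField k X).symm.injective (congrArg Subtype.val h)
    obtain ⟨rfl, h2⟩ := Sigma.mk.inj_iff.mp this
    exact congrArg (Sigma.mk y) (AlgHom.coe_ringHom_injective (congrArg CommRingCat.Hom.hom (eq_of_heq h2)))
  · obtain ⟨⟨y, ψ⟩, rfl⟩ := (Scheme.SpecToEquivOfField k X).symm.surjective h
    change (Spec.map ψ ≫ X.fromSpecResidueField y) ≫ _ = _ at hh
    rw [Category.assoc, ← Groth.L22.FibreDim.SpecMap_resMap, ← Spec.map_comp] at hh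
    exact ⟨⟨y, { ψ.hom with commutes' := RingHom.congr_fun (congrArg CommRingCat.Hom.hom (Spec.map_injective hh)) }⟩,
      rfl⟩

omit [LocallyOfFiniteType (X ↘ Spec (CommRingCat.of k₀))] [CompactSpace X] in
theorem toPoint_fixed_iff (m : ℕ) (z : Σ y : X, X.residueField y →ₐ[k₀] k) :
    Spec.map (CommRingCat.ofHom (frobPow (k₀ := k₀) k m)) ≫ (toPoint X z).1 = (toPoint X z).1 ↔
      ∀ a, z.2 a ^ (Nat.card k₀ ^ m) = z.2 a := by
  obtain ⟨y, ψ⟩ := z
  have e : Spec.map (CommRingCat.ofHom (frobPow (k₀ := k₀) k m)) ≫ (toPoint X ⟨y, ψ⟩).1 =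
      (Scheme.SpecToEquivOfField k X).symm
        ⟨y, CommRingCat.ofHom ψ.toRingHom ≫ CommRingCat.ofHom (frobPow (k₀ := k₀) k m)⟩ := by
    change _ ≫ Spec.map _ ≫ X.fromSpecResidueField y = Spec.map _ ≫ X.fromSpecResidueField y
    rw [Spec.map_comp, Category.assoc]
  rw [e, show (toPoint X ⟨y, ψ⟩).1 = (Scheme.SpecToEquivOfField k X).symm ⟨y, CommRingCat.ofHom ψ.toRingHom⟩ from rfl,
    (Scheme.SpecToEquivOfField k X).symm.injective.eq_iff]
  constructor
  · intro h a
    rw [← frobPow_apply]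
    exact congrArg (fun φ => φ.hom a) (eq_of_heq (Sigma.mk.inj_iff.mp h).2)
  · intro h
    refine congrArg (Sigma.mk y) (CommRingCat.hom_ext (RingHom.ext fun a => ?_))
    exact (frobPow_apply (k₀ := k₀) m (ψ a)).trans (h a)

/-- The points with values in `k` fixed by the `m`-th power of Frobenius are counted by `nPts`. -/
theorem card_fixed_points [IsAlgClosed k] {m : ℕ} (hm : 0 < m) :
    Finite {h : Spec (CommRingCat.of k) ⟶ X //
      h ≫ (X ↘ Spec (CommRingCat.of k₀)) = Spec.map (CommRingCat.ofHom (algebraMap k₀ k)) ∧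
        Spec.map (CommRingCat.ofHom (frobPow (k₀ := k₀) k m)) ≫ h = h} ∧
    Nat.card {h : Spec (CommRingCat.of k) ⟶ X //
      h ≫ (X ↘ Spec (CommRingCat.of k₀)) = Spec.map (CommRingCat.ofHom (algebraMap k₀ k)) ∧
        Spec.map (CommRingCat.ofHom (frobPow (k₀ := k₀) k m)) ≫ h = h} =
      Zeta.nPts (X ↘ Spec (CommRingCat.of k₀)) m := by
  obtain ⟨hfin, hcard⟩ := card_sigma_fixed (k₀ := k₀) (k := k) (X := X) hm
  let f : (Σ y : X, Fixed k₀ k (X.residueField y) m) → {h : Spec (CommRingCat.of k) ⟶ X //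
      h ≫ (X ↘ Spec (CommRingCat.of k₀)) = Spec.map (CommRingCat.ofHom (algebraMap k₀ k)) ∧
        Spec.map (CommRingCat.ofHom (frobPow (k₀ := k₀) k m)) ≫ h = h} := fun z =>
    ⟨(toPoint X ⟨z.1, z.2.1⟩).1, (toPoint X ⟨z.1, z.2.1⟩).2, (toPoint_fixed_iff m ⟨z.1, z.2.1⟩).mpr z.2.2⟩
  have hf : Function.Bijective f := by
    refine ⟨fun z z' h => ?_, fun ⟨h, hh, hfix⟩ => ?_⟩
    · obtain ⟨y, ψ⟩ := z
      obtain ⟨y', ψ'⟩ := z'
      obtain ⟨rfl, h2⟩ := Sigma.mk.inj_iff.mp ((toPoint_bijective (k₀ := k₀) (k := k) X).1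
        (a₁ := ⟨y, ψ.1⟩) (a₂ := ⟨y', ψ'.1⟩) (Subtype.ext (congrArg Subtype.val h :)))
      exact congrArg (Sigma.mk y) (Subtype.ext (eq_of_heq h2))
    · obtain ⟨z, hz⟩ := (toPoint_bijective (k₀ := k₀) (k := k) X).2 ⟨h, hh⟩
      obtain rfl : (toPoint X z).1 = h := congrArg Subtype.val hz
      exact ⟨⟨z.1, z.2, (toPoint_fixed_iff m z).mp hfix⟩, rfl⟩
  exact ⟨Finite.of_surjective f hf.2, (Nat.card_congr (Equiv.ofBijective f hf)).symm.trans hcard⟩

/-- Points with values in a finite extension. -/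
theorem pointCount_eq (k' : Type u) [Field k'] [Algebra k₀ k'] [Finite k'] :
    SgaExt.pointCount (X ↘ Spec (CommRingCat.of k₀)) k' =
      Zeta.nPts (X ↘ Spec (CommRingCat.of k₀)) (Module.finrank k₀ k') := by
  set K := AlgebraicClosure k₀
  set m := Module.finrank k₀ k'
  have hm : 0 < m := Module.finrank_pos
  let ι : k' →ₐ[k₀] K := IsAlgClosed.lift
  have hrange : ∀ c : K, c ^ (Nat.card k₀ ^ m) = c → ∃ a, ι a = c := by
    have hsub : Set.range ι ⊆ {c : K | c ^ (Nat.card k₀ ^ m) = c} := by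
      rintro _ ⟨a, rfl⟩
      change ι a ^ _ = ι a
      rw [← map_pow, (pow_fixed_iff k' m).mpr dvd_rfl]
    have h1 : 1 < Nat.card k₀ ^ m := Nat.one_lt_pow hm.ne' Finite.one_lt_card
    classical
    have hle : {c : K | c ^ (Nat.card k₀ ^ m) = c}.ncard ≤ Nat.card k₀ ^ m := by
      refine (Set.ncard_le_ncard (t := ((Polynomial.X ^ (Nat.card k₀ ^ m) - Polynomial.X : Polynomial K).roots.toFinset : Set K))
        (fun c hc => ?_) (Finset.finite_toSet _)).trans ?_
      · simp only [Finset.mem_coe, Multiset.mem_toFinset,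
          Polynomial.mem_roots (FiniteField.X_pow_card_sub_X_ne_zero K h1)]
        simp [Set.mem_setOf_eq ▸ hc]
      · rw [Set.ncard_coe_finset]
        exact (Multiset.toFinset_card_le _).trans ((Polynomial.card_roots' _).trans
          (le_of_eq (FiniteField.X_pow_card_sub_X_natDegree_eq K h1)))
    have heq := Set.eq_of_subset_of_ncard_le hsub (hle.trans (le_of_eq (by
      rw [Set.ncard_range_of_injective (f := (ι : k' → K)) ι.injective]; exact (Module.natCard_eq_pow_finrank (K := k₀) (V := k')).symm))) (finite_fixed_set hm)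
    exact fun c hc => (Set.ext_iff.mp heq c).mpr hc
  rw [SgaExt.pointCount, ← Nat.card_congr (Equiv.ofBijective _ (toPoint_bijective (k₀ := k₀) (k := k') X)),
    ← (card_sigma_fixed (k₀ := k₀) (k := K) (X := X) hm).2]
  refine Nat.card_congr (Equiv.ofBijective (fun z => ⟨z.1, ι.comp z.2, fun a => ?_⟩) ⟨fun z z' h => ?_, fun z => ?_⟩)
  · rw [AlgHom.comp_apply, ← map_pow, (pow_fixed_iff k' m).mpr dvd_rfl]
  · obtain ⟨y, ψ⟩ := z
    obtain ⟨y', ψ'⟩ := z'
    obtain ⟨rfl, h2⟩ := Sigma.mk.inj_iff.mp h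
    exact congrArg (Sigma.mk y) (AlgHom.ext fun a => ι.injective
      (DFunLike.congr_fun (congrArg Subtype.val (eq_of_heq h2)) a))
  · obtain ⟨y, ψ, hψ⟩ := z
    let e := AlgEquiv.ofInjectiveField ι
    refine ⟨⟨y, e.symm.toAlgHom.comp (ψ.codRestrict ι.range fun a => hrange _ (hψ a))⟩, ?_⟩
    refine congrArg (Sigma.mk y) (Subtype.ext (AlgHom.ext fun a => ?_))
    exact congrArg Subtype.val (e.apply_symm_apply (ψ.codRestrict ι.range (fun a => hrange _ (hψ a)) a))

end Groth.L11.Points
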