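import Groth.Agent.L11.Weil.Geom
import Mathlib.LinearAlgebra.Trace
import Mathlib.LinearAlgebra.Dual.Basis

/-!
The class of a graph and the trace formula.
-/

set_option autoImplicit false
universe u v w

open AlgebraicGeometry CategoryTheory

namespace Groth.L11.Weil

variable {k : Type u} [Field k] {K : Type v} [Field K]
  (T : WeilCoh.TheoryOn.{u, v, w} k (WeilCoh.IsVar k) K)

theorem even_sign {a b : ℕ} (h : Even (a + b)) : (-1 : K) ^ (a * a) * (-1 : K) ^ (b * a) = 1 := by
  rw [← pow_add, ← add_mul, Even.neg_one_pow (h.mul_right a)]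

/-- A class on a product is zero if it is orthogonal to all product classes. -/
theorem eq_zero_of_prod {X Y P : WeilCoh.Var k} {p : P ⟶ X} {q : P ⟶ Y} (hP : WeilCoh.IsProd p q) {m : ℤ}
    {x : T.H P} (hx : x ∈ T.gr P m)
    (h : ∀ (i s : ℤ) (a : T.H X) (b : T.H Y), a ∈ T.gr X i → b ∈ T.gr Y s → m + (i + s) = top P →
      T.tr P (x * (T.pull p a * T.pull q b)) = 0) : x = 0 := by
  refine eq_zero_of_tr T (m' := top P - m) (by omega) hx fun c hc => ?_
  clear hc
  obtain ⟨t, rfl⟩ := (T.kunneth p q hP).2 c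
  induction t using TensorProduct.induction_on with
  | zero => simp
  | add y y' hy hy' => rw [map_add, mul_add, map_add, hy, hy', add_zero]
  | tmul a b =>
    change T.tr P (x * (T.pull p a * T.pull q b)) = 0
    have ha : a ∈ ⨆ i, T.gr X i := (T.decomp X).submodule_iSup_eq_top ▸ Submodule.mem_top
    refine Submodule.iSup_induction _ (motive := fun a => T.tr P (x * (T.pull p a * T.pull q b)) = 0) ha
      (fun i a ha => ?_) (by simp) (fun a a' h₁ h₂ => by rw [map_add, add_mul, mul_add, map_add, h₁, h₂, add_zero])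
    have hb : b ∈ ⨆ i, T.gr Y i := (T.decomp Y).submodule_iSup_eq_top ▸ Submodule.mem_top
    refine Submodule.iSup_induction _ (motive := fun b => T.tr P (x * (T.pull p a * T.pull q b)) = 0) hb
      (fun s b hb => ?_) (by simp) (fun b b' h₁ h₂ => by rw [map_add, mul_add, mul_add, map_add, h₁, h₂, add_zero])
    by_cases hd : m + (i + s) = top P
    · exact h i s a b ha hb hd
    · exact T.tr_vanish P _ _ (mul_mem T hx (mul_mem T (T.pull_mem p _ a ha) (T.pull_mem q _ b hb))) hd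

/-- Pairing of two product classes. -/
theorem tr_prod_mul {X Y P : WeilCoh.Var k} {p : P ⟶ X} {q : P ⟶ Y} (hP : WeilCoh.IsProd p q) {r t i s : ℤ}
    {A a : T.H X} {F b : T.H Y} (hA : A ∈ T.gr X r) (hF : F ∈ T.gr Y t) (ha : a ∈ T.gr X i) (hb : b ∈ T.gr Y s)
    (h : r + t + (i + s) = top P) :
    T.tr P (T.pull p A * T.pull q F * (T.pull p a * T.pull q b)) =
      (-1 : K) ^ (t.natAbs * i.natAbs) * (T.tr X (A * a) * T.tr Y (F * b)) := by
  rw [mul_assoc (T.pull p A), ← mul_assoc (T.pull q F), comm_of_mem T (T.pull_mem q _ F hF) (T.pull_mem p _ a ha),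
    smul_mul_assoc, mul_smul_comm, map_smul, smul_eq_mul, mul_assoc (T.pull p a), ← mul_assoc (T.pull p A),
    ← map_mul, ← map_mul]
  congr 1
  have htop := top_prod T hP
  by_cases h1 : r + i = top X
  · exact T.tr_prod p q hP _ _ (mem_congr T h1 (mul_mem T hA ha)) (mem_congr T (show t + s = top Y by omega) (mul_mem T hF hb))
  · rcases lt_or_gt_of_ne h1 with hlt | hgt
    · rw [eq_zero_of_vanish T (Or.inr (show top Y < t + s by omega)) (mul_mem T hF hb)]; simp
    · rw [eq_zero_of_vanish T (Or.inr hgt) (mul_mem T hA ha)]; simp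

variable {X P : WeilCoh.Var k} (φ : X ⟶ X) {p q : P ⟶ X} (hP : WeilCoh.IsProd p q) (j : X ⟶ P) (hjp : j ≫ p = 𝟙 X)
  (hjq : j ≫ q = φ)


include hP hjp in
theorem graph_mem : (T.cl P (WeilCoh.sm j (genericPoint ↥X.obj.left))) ∈ T.gr P (top X) := by
  refine mem_congr T ?_ (T.cl_mem P _)
  have h1 := codim_add_pdim P (WeilCoh.sm j (genericPoint ↥X.obj.left))
  rw [pdim_section j p hjp, pdim_genericPoint] at h1
  have h2 := top_prod T hP
  simp only [top] at h2 ⊢
  omega

include hjp hjq in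
theorem tr_graph_mul {i s : ℤ} {a b : T.H X} (ha : a ∈ T.gr X i) (hb : b ∈ T.gr X s) (h : i + s = top X) :
    T.tr P ((T.cl P (WeilCoh.sm j (genericPoint ↥X.obj.left))) * (T.pull p a * T.pull q b)) = T.tr X (a * T.pull φ b) := by
  have hpush := T.cl_push j (genericPoint ↥X.obj.left) (T.pull p a * T.pull q b)
    (by rw [pdim_genericPoint]; exact mem_congr T h (mul_mem T (T.pull_mem p _ a ha) (T.pull_mem q _ b hb)))
  rw [cl_genericPoint, one_mul, residueDegree_section j p hjp, Nat.cast_one, one_mul, map_mul,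
    ← AlgHom.comp_apply, ← AlgHom.comp_apply (T.pull j), ← T.pull_comp, ← T.pull_comp, hjp, hjq, T.pull_id] at hpush
  exact hpush.symm

include hP hjp hjq in
/-- The class of a graph in terms of dual bases. -/
theorem graph_eq_sum (ι : ℕ → Type) [∀ r, Fintype (ι r)] [∀ r, DecidableEq (ι r)]
    (e : (r : ℕ) → Module.Basis (ι r) K ↥(T.gr X (r : ℤ)))
    (f : (r : ℕ) → ι r → ↥(T.gr X (2 * (WeilCoh.dim X.obj.left : ℤ) - r)))
    (hef : ∀ r, r ≤ 2 * WeilCoh.dim X.obj.left → ∀ i l : ι r,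
      T.tr X ((f r l : T.H X) * (e r i : T.H X)) = if i = l then 1 else 0) :
    (T.cl P (WeilCoh.sm j (genericPoint ↥X.obj.left))) = ∑ r ∈ Finset.range (2 * WeilCoh.dim X.obj.left + 1), ∑ i : ι r,
      T.pull p (T.pull φ (e r i : T.H X)) * T.pull q (f r i : T.H X) := by
  rw [← sub_eq_zero]
  have hterm : ∀ (r : ℕ) (l : ι r),
      T.pull p (T.pull φ (e r l : T.H X)) * T.pull q (f r l : T.H X) ∈ T.gr P (top X) := fun r l =>
    mem_congr T (by simp only [top]; omega)
      (mul_mem T (T.pull_mem p _ _ (T.pull_mem φ _ _ (e r l).2)) (T.pull_mem q _ _ (f r l).2))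
  refine eq_zero_of_prod T hP (sub_mem (graph_mem T hP j hjp) (sum_mem fun r _ => sum_mem fun l _ => hterm r l))
    fun i s a b ha hb h => ?_
  have htop := top_prod T hP
  have his : i + s = top X := by omega
  rw [sub_mul, map_sub, sub_eq_zero, tr_graph_mul T φ j hjp hjq ha hb his, Finset.sum_mul, map_sum]
  simp only [Finset.sum_mul, map_sum]
  have hcomp : ∀ (r : ℕ) (l : ι r),
      T.tr P (T.pull p (T.pull φ (e r l : T.H X)) * T.pull q (f r l : T.H X) * (T.pull p a * T.pull q b)) =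
        (-1 : K) ^ ((2 * (WeilCoh.dim X.obj.left : ℤ) - r).natAbs * i.natAbs) *
          (T.tr X (T.pull φ (e r l : T.H X) * a) * T.tr X ((f r l : T.H X) * b)) := fun r l =>
    tr_prod_mul T hP (T.pull_mem φ _ _ (e r l).2) (f r l).2 ha hb (by simp only [top] at htop h ⊢; omega)
  simp only [hcomp]
  by_cases hs : 0 ≤ s ∧ s ≤ top X
  swap
  · have : b = 0 := eq_zero_of_vanish T (by omega) hb
    subst this
    simp
  obtain ⟨r₀, rfl⟩ : ∃ r₀ : ℕ, s = r₀ := ⟨s.toNat, (Int.toNat_of_nonneg hs.1).symm⟩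
  have hr₀ : r₀ ≤ 2 * WeilCoh.dim X.obj.left := by simp only [top] at hs; omega
  rw [Finset.sum_eq_single r₀ (fun r _ hr => Finset.sum_eq_zero fun l _ => by
      rw [T.tr_vanish X _ _ (mul_mem T (f r l).2 hb) (by omega), mul_zero, mul_zero])
    (fun h0 => absurd (Finset.mem_range.mpr (by omega)) h0), ← Finset.mul_sum]
  have hrepr : ∀ l, T.tr X ((f r₀ l : T.H X) * b) = (e r₀).repr ⟨b, hb⟩ l := fun l => by
    conv_lhs => rw [show b = ((∑ i, (e r₀).repr ⟨b, hb⟩ i • e r₀ i : T.gr X (r₀ : ℤ)) : T.H X) by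
      rw [(e r₀).sum_repr]]
    simp only [AddSubmonoidClass.coe_finsetSum, SetLike.val_smul, Finset.mul_sum, mul_smul_comm, map_sum, map_smul,
      hef r₀ hr₀, smul_eq_mul, mul_ite, mul_one, mul_zero, Finset.sum_ite_eq', Finset.mem_univ, if_true]
  have hsum : ∑ l, T.tr X (T.pull φ (e r₀ l : T.H X) * a) * T.tr X ((f r₀ l : T.H X) * b) =
      T.tr X (T.pull φ b * a) := by
    conv_rhs => rw [show b = ((∑ i, (e r₀).repr ⟨b, hb⟩ i • e r₀ i : T.gr X (r₀ : ℤ)) : T.H X) by
      rw [(e r₀).sum_repr]]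
    simp only [AddSubmonoidClass.coe_finsetSum, SetLike.val_smul, Finset.sum_mul, map_sum, map_smul, smul_mul_assoc,
      hrepr, smul_eq_mul]
    exact Finset.sum_congr rfl fun l _ => mul_comm _ _
  rw [hsum, comm_of_mem T (T.pull_mem φ _ b hb) ha, map_smul, smul_eq_mul, ← mul_assoc,
    show (2 * (WeilCoh.dim X.obj.left : ℤ) - r₀).natAbs = i.natAbs from congrArg _ (by simp only [top] at his; omega),
    even_sign (by
      rw [Nat.even_add, Int.natAbs_even, Int.natAbs_even, ← Int.even_add, his]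
      exact even_two_mul _), one_mul]

include hP hjp hjq in
/-- The trace formula. -/
theorem lefschetz (d : X ⟶ P) (hdp : d ≫ p = 𝟙 X) (hdq : d ≫ q = 𝟙 X) :
    T.tr P (T.cl P (WeilCoh.sm j (genericPoint ↥X.obj.left)) * T.cl P (WeilCoh.sm d (genericPoint ↥X.obj.left))) =
      ∑ i ∈ Finset.range (2 * WeilCoh.dim X.obj.left + 1),
        (-1 : K) ^ i * LinearMap.trace K ↥(T.gr X (i : ℤ)) (T.pullDeg φ (i : ℤ)) := by
  classical
  set n := WeilCoh.dim X.obj.left
  let e : (r : ℕ) → Module.Basis (Fin (Module.finrank K ↥(T.gr X (r : ℤ)))) K ↥(T.gr X (r : ℤ)) := fun r =>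
    Module.finBasis K _
  have hdu : ∀ r : ℕ, (2 * (n : ℤ) - r) + (r : ℤ) = top X := fun r => by simp [top, n]
  let f : (r : ℕ) → Module.Basis (Fin (Module.finrank K ↥(T.gr X (r : ℤ)))) K ↥(T.gr X (2 * (n : ℤ) - r)) := fun r =>
    haveI := T.duality X (2 * (n : ℤ) - r) r (hdu r)
    (e r).dualBasis.map (WeilCoh.pairing K (T.gr X (2 * (n : ℤ) - r)) (T.gr X r) (T.tr X)).toPerfPair.symm
  have hef : ∀ (r : ℕ) (i l), T.tr X ((f r l : T.H X) * (e r i : T.H X)) = if i = l then 1 else 0 := fun r i l => by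
    haveI := T.duality X (2 * (n : ℤ) - r) r (hdu r)
    have := LinearMap.congr_fun (LinearMap.apply_symm_toPerfPair_self
      (p := WeilCoh.pairing K (T.gr X (2 * (n : ℤ) - r)) (T.gr X r) (T.tr X)) ((e r).dualBasis l)) (e r i)
    rw [Module.Basis.dualBasis_apply_self] at this
    exact this
  have hd := graph_eq_sum T (𝟙 X) hP d hdp hdq (fun r => Fin (Module.finrank K ↥(T.gr X (r : ℤ)))) e
    (fun r => f r) (fun r _ => hef r)
  rw [hd, Finset.mul_sum, map_sum]
  have hr : ∀ r : ℕ, T.tr P ((T.cl P (WeilCoh.sm j (genericPoint ↥X.obj.left))) * ∑ l, T.pull p (T.pull (𝟙 X) (e r l : T.H X)) * T.pull q (f r l : T.H X)) =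
      (-1 : K) ^ r * LinearMap.trace K _ (T.pullDeg φ (2 * (n : ℤ) - r)) := fun r => by
    rw [Finset.mul_sum, map_sum, LinearMap.trace_eq_matrix_trace K (f r), Matrix.trace, Finset.mul_sum]
    refine Finset.sum_congr rfl fun l _ => ?_
    rw [tr_graph_mul T φ j hjp hjq (T.pull_mem (𝟙 X) _ _ (e r l).2) (f r l).2 (by simp [top, n]), T.pull_id,
      AlgHom.id_apply, comm_of_mem T (e r l).2 (T.pull_mem φ _ _ (f r l).2), map_smul, smul_eq_mul,
      Matrix.diag_apply, LinearMap.toMatrix_apply]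
    congr 1
    · rw [neg_one_pow_eq_pow_mod_two (n := r), neg_one_pow_eq_pow_mod_two]
      congr 1
      rw [Nat.mul_mod, Int.natAbs_natCast]
      rcases Nat.mod_two_eq_zero_or_one r with h2 | h2
      · simp [h2]
      · have : (2 * (n : ℤ) - r).natAbs % 2 = 1 := by omega
        simp [h2, this]
    · generalize hy : T.pullDeg φ (2 * (n : ℤ) - r) (f r l) = y
      have hy' : T.pull φ (f r l : T.H X) = (y : T.H X) := by rw [← hy]; rfl
      conv_lhs => rw [hy', show (y : T.H X) = ((∑ i, (f r).repr y i • f r i : T.gr X _) : T.H X) by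
        rw [(f r).sum_repr]]
      simp only [AddSubmonoidClass.coe_finsetSum, SetLike.val_smul, Finset.sum_mul, smul_mul_assoc, map_sum, map_smul,
        hef, smul_eq_mul, mul_ite, mul_one, mul_zero, Finset.sum_ite_eq, Finset.mem_univ, if_true]
  rw [Finset.sum_congr rfl fun r _ => hr r]
  let g : ℤ → K := fun i => LinearMap.trace K _ (T.pullDeg φ i)
  change ∑ r ∈ Finset.range (2 * n + 1), (-1 : K) ^ r * g (2 * (n : ℤ) - r) =
    ∑ i ∈ Finset.range (2 * n + 1), (-1 : K) ^ i * g i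
  rw [← Finset.sum_range_reflect (fun i => (-1 : K) ^ i * g i)]
  refine Finset.sum_congr rfl fun r hr => ?_
  rw [Finset.mem_range] at hr
  rw [show ((2 * n + 1 - 1 - r : ℕ) : ℤ) = 2 * (n : ℤ) - r by omega, neg_one_pow_eq_pow_mod_two (n := r),
    neg_one_pow_eq_pow_mod_two (n := 2 * n + 1 - 1 - r), show (2 * n + 1 - 1 - r) % 2 = r % 2 by omega]

end Groth.L11.Weil
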