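import Groth.Agent.L11.Weil.Frob
import Groth.Agent.L11.Weil.Trace
import Groth.Agent.L11.Weil.Points
import Mathlib.AlgebraicGeometry.AlgClosed.Basic
import Mathlib.Algebra.Ring.GeomSum

/-!
The intersection of the graph of a power of Frobenius with the diagonal consists of the rational points, each with
multiplicity one.
-/

set_option autoImplicit false
universe u v w

open AlgebraicGeometry CategoryTheory

namespace Groth.L11.Weil

attribute [local instance] Curv2.resAlgebra Curv2.stalkAlgebra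

theorem germ_appLE {X Y : Scheme.{u}} (f : X ⟶ Y) {U : Y.Opens} {V : X.Opens} (e : V ≤ f ⁻¹ᵁ U) {x : X} (hx : x ∈ V)
    (s : Γ(Y, U)) :
    X.presheaf.germ V x hx (f.appLE U V e s) = f.stalkMap x (Y.presheaf.germ U (f x) (e hx) s) := by
  rw [Scheme.Hom.germ_stalkMap_apply, Scheme.Hom.appLE, ConcreteCategory.comp_apply, TopCat.Presheaf.germ_res_apply]

theorem evaluation_appLE {X Y : Scheme.{u}} (f : X ⟶ Y) {U : Y.Opens} {V : X.Opens} (e : V ≤ f ⁻¹ᵁ U) {x : X} (hx : x ∈ V)
    (s : Γ(Y, U)) :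
    X.evaluation V x hx (f.appLE U V e s) = f.residueFieldMap x (Y.evaluation U (f x) (e hx) s) := by
  change X.residue x (X.presheaf.germ V x hx (f.appLE U V e s)) = _
  rw [germ_appLE]
  exact (ConcreteCategory.congr_hom (Scheme.residue_residueFieldMap f x) _).symm

/-- Two field valued points agreeing in an affine open are equal. -/
theorem point_ext {k : Type u} [Field k] {X : Scheme.{u}} {h₁ h₂ : Spec (CommRingCat.of k) ⟶ X} {U : X.Opens}
    (hU : IsAffineOpen U) (e₁ : ⊤ ≤ h₁ ⁻¹ᵁ U) (e₂ : ⊤ ≤ h₂ ⁻¹ᵁ U)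
    (h : ∀ s, h₁.appLE U ⊤ e₁ s = h₂.appLE U ⊤ e₂ s) : h₁ = h₂ := by
  have hh : h₁.appLE U ⊤ e₁ = h₂.appLE U ⊤ e₂ := ConcreteCategory.hom_ext _ _ h
  haveI : IsIso (isAffineOpen_top (Spec (CommRingCat.of k))).fromSpec := by
    rw [IsAffineOpen.fromSpec_top]; infer_instance
  rw [← cancel_epi (isAffineOpen_top (Spec (CommRingCat.of k))).fromSpec,
    ← IsAffineOpen.SpecMap_appLE_fromSpec h₁ hU _ e₁, ← IsAffineOpen.SpecMap_appLE_fromSpec h₂ hU _ e₂, hh]

/-- An endomorphism which is the `Q`-th power on sections and the identity on points acts on field valued points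
through the `Q`-th power map of the field. -/
theorem point_comp_powMap {k : Type u} [Field k] {X : Scheme.{u}} (FX : X ⟶ X) (hFb : FX.base = 𝟙 _)
    (hle : ∀ U : X.Opens, U ≤ FX ⁻¹ᵁ U) {Q : ℕ} (hFapp : ∀ (U : X.Opens) (s : Γ(X, U)), (FX.appLE U U (hle U)) s = s ^ Q)
    (φ : k →+* k) (hφ : ∀ c, φ c = c ^ Q) (h : Spec (CommRingCat.of k) ⟶ X) :
    h ≫ FX = Spec.map (CommRingCat.ofHom φ) ≫ h := by
  haveI : Subsingleton ↥(Spec (CommRingCat.of k)) := inferInstanceAs (Subsingleton (PrimeSpectrum k))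
  obtain ⟨_, ⟨U, hU, rfl⟩, hyU, -⟩ :=
    X.isBasis_affineOpens.exists_subset_of_mem_open (Set.mem_univ (h (IsLocalRing.closedPoint k))) isOpen_univ
  have eh : (⊤ : (Spec (CommRingCat.of k)).Opens) ≤ h ⁻¹ᵁ U := fun x _ => by
    change h x ∈ U
    rwa [Subsingleton.elim x (IsLocalRing.closedPoint k)]
  have e1 : (⊤ : (Spec (CommRingCat.of k)).Opens) ≤ (h ≫ FX) ⁻¹ᵁ U := fun x hx => hle U (eh hx)
  have e2 : (⊤ : (Spec (CommRingCat.of k)).Opens) ≤ (Spec.map (CommRingCat.ofHom φ) ≫ h) ⁻¹ᵁ U := fun x _ =>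
    eh (x := (Spec.map (CommRingCat.ofHom φ)) x) trivial
  refine point_ext hU e1 e2 fun s => ?_
  rw [← Scheme.Hom.appLE_comp_appLE h FX U U ⊤ (hle U) eh, ← Scheme.Hom.appLE_comp_appLE _ h U ⊤ ⊤ eh (by simp),
    ConcreteCategory.comp_apply, ConcreteCategory.comp_apply, hFapp, map_pow]
  set z := h.appLE U ⊤ eh s
  apply (Scheme.ΓSpecIso (CommRingCat.of k)).commRingCatIsoToRingEquiv.injective
  rw [map_pow, ← hφ]
  have := ConcreteCategory.congr_hom (Scheme.ΓSpecIso_naturality (CommRingCat.ofHom φ)) z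
  simp only [Scheme.Hom.appTop] at this
  simp [Scheme.Hom.appLE]
  exact this.symm

section

variable {k₀ : Type u} [Field k₀] [Finite k₀] {k : Type u} [Field k] [IsAlgClosed k] [Algebra k₀ k]
  {X : Scheme.{u}} [X.Over (Spec (CommRingCat.of k₀))] [LocallyOfFiniteType (X ↘ Spec (CommRingCat.of k₀))]
  [CompactSpace X]
  (FXm : X ⟶ X) (hFb : FXm.base = 𝟙 _) (hle : ∀ U : X.Opens, U ≤ FXm ⁻¹ᵁ U) {m : ℕ}
  (hFapp : ∀ (U : X.Opens) (s : Γ(X, U)), (FXm.appLE U U (hle U)) s = s ^ (Nat.card k₀ ^ m))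
  (Xb : WeilCoh.Var k) (π : Xb.obj.left ⟶ X)
  (hπ : IsPullback π Xb.obj.hom (X ↘ Spec (CommRingCat.of k₀)) (Spec.map (CommRingCat.ofHom (algebraMap k₀ k))))
  (G : Xb ⟶ Xb) (hG : WeilCoh.sm G ≫ π = π ≫ FXm)
  {P : WeilCoh.Var k} (p q : P ⟶ Xb) (hP : WeilCoh.IsProd p q) (j d : Xb ⟶ P)
  (hjp : j ≫ p = 𝟙 Xb) (hjq : j ≫ q = G) (hdp : d ≫ p = 𝟙 Xb) (hdq : d ≫ q = 𝟙 Xb)

include hjp hdp in
theorem mem_preimage_iff (x : Xb.obj.left) :
    x ∈ (WeilCoh.sm d) ⁻¹' closure ({WeilCoh.sm j (genericPoint ↥Xb.obj.left)} : Set P.obj.left) ↔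
      WeilCoh.sm d x = WeilCoh.sm j x := by
  have hj : ∀ y, WeilCoh.sm p (WeilCoh.sm j y) = y := fun y => by
    change (WeilCoh.sm j ≫ WeilCoh.sm p) y = y
    rw [← sm_comp, hjp]; rfl
  have hd : ∀ y, WeilCoh.sm p (WeilCoh.sm d y) = y := fun y => by
    change (WeilCoh.sm d ≫ WeilCoh.sm p) y = y
    rw [← sm_comp, hdp]; rfl
  haveI : IsClosedImmersion (WeilCoh.sm j ≫ WeilCoh.sm p) := by
    rw [← sm_comp, hjp]
    exact inferInstanceAs (IsClosedImmersion (𝟙 Xb.obj.left))
  haveI := IsClosedImmersion.of_comp (WeilCoh.sm j) (WeilCoh.sm p)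
  have hr : closure ({WeilCoh.sm j (genericPoint ↥Xb.obj.left)} : Set P.obj.left) = Set.range (WeilCoh.sm j) := by
    refine subset_antisymm ((WeilCoh.sm j).isClosedEmbedding.isClosed_range.closure_subset_iff.mpr
      (Set.singleton_subset_iff.mpr ⟨_, rfl⟩)) ?_
    rintro _ ⟨y, rfl⟩
    exact ((genericPoint_specializes y).map (WeilCoh.sm j).continuous).mem_closure
  rw [Set.mem_preimage, hr]
  exact ⟨fun ⟨y, hy⟩ => by rw [← hy, show y = x by rw [← hj y, hy, hd]], fun h => ⟨x, h.symm⟩⟩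

include hFb hle hFapp hπ hG hjp hjq hdp hdq in
omit [LocallyOfFiniteType (X ↘ Spec (CommRingCat.of k₀))] [CompactSpace X] in
/-- At a fixed point: it is closed and the multiplicity is one. -/
theorem fixed_point (hm : 0 < m) (x : Xb.obj.left)
    (hx : WeilCoh.sm d x ∈ closure ({WeilCoh.sm j (genericPoint ↥Xb.obj.left)} : Set P.obj.left)) :
    IsClosed ({x} : Set Xb.obj.left) ∧
      WeilCoh.preimMult (WeilCoh.sm d) (WeilCoh.sm j (genericPoint ↥Xb.obj.left)) x hx = 1 := by
  set η := genericPoint ↥Xb.obj.left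
  set Q := Nat.card k₀ ^ m with hQdef
  have hQ0 : (Q : Xb.obj.left.residueField x) = 0 := by
    have h0 : (Nat.card k₀ : k₀) = 0 := by
      letI := Fintype.ofFinite k₀
      rw [Nat.card_eq_fintype_card]; exact FiniteField.cast_card_eq_zero k₀
    have : (Q : k) = 0 := by
      rw [hQdef, Nat.cast_pow, ← map_natCast (algebraMap k₀ k), h0, map_zero, zero_pow hm.ne']
    rw [← map_natCast (algebraMap k (Xb.obj.left.residueField x)), this, map_zero]
  obtain ⟨_, ⟨U, hU, rfl⟩, hxU, -⟩ :=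
    X.isBasis_affineOpens.exists_subset_of_mem_open (Set.mem_univ (π x)) isOpen_univ
  haveI : IsAffineHom π := MorphismProperty.of_isPullback (P := @IsAffineHom) hπ.flip inferInstance
  set V := π ⁻¹ᵁ U with hVdef
  have hV : IsAffineOpen V := hU.preimage π
  have hxV : x ∈ V := hxU
  have hηV : η ∈ V := (genericPoint_specializes x).mem_open V.2 hxV
  have hdj : WeilCoh.sm d x = WeilCoh.sm j x := (mem_preimage_iff Xb p j d hjp hdp x).mp hx
  set W := (WeilCoh.sm p) ⁻¹ᵁ V ⊓ (WeilCoh.sm q) ⁻¹ᵁ V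
  have hdW : WeilCoh.sm d x ∈ W := by
    refine ⟨?_, ?_⟩
    · change (WeilCoh.sm d ≫ WeilCoh.sm p) x ∈ V
      rw [← sm_comp, hdp]; exact hxV
    · change (WeilCoh.sm d ≫ WeilCoh.sm q) x ∈ V
      rw [← sm_comp, hdq]; exact hxV
  have hjW : WeilCoh.sm j η ∈ W := (specializes_iff_mem_closure.mpr hx).mem_open W.2 hdW
  set Wx := (WeilCoh.sm j) ⁻¹ᵁ W ⊓ (WeilCoh.sm d) ⁻¹ᵁ W ⊓ V
  have hxWx : x ∈ Wx := ⟨⟨by change WeilCoh.sm j x ∈ W; rw [← hdj]; exact hdW, hdW⟩, hxV⟩
  have hηWx : η ∈ Wx := (genericPoint_specializes x).mem_open Wx.2 hxWx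
  set ξ := WeilCoh.sm j η with hξdef
  set I : Ideal (Xb.obj.left.presheaf.stalk x) :=
    Ideal.map ((WeilCoh.sm d).stalkMap x).hom
      (RingHom.ker (Cyc.specMap (WeilCoh.sm d x) ξ (specializes_iff_mem_closure.mpr hx))) with hI
  have hIm : I ≤ IsLocalRing.maximalIdeal _ := by
    rw [hI, Ideal.map_le_iff_le_comap, IsLocalRing.maximalIdeal_comap]
    exact IsLocalRing.le_maximalIdeal (RingHom.ker_ne_top _)
  let germ : Γ(Xb.obj.left, V) →+* Xb.obj.left.presheaf.stalk x := (Xb.obj.left.presheaf.germ V x hxV).hom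
  let pi : Γ(X, U) →+* Γ(Xb.obj.left, V) := (π.appLE U V le_rfl).hom
  have hgenI : ∀ s, germ (pi s) - germ (pi s) ^ Q ∈ I := fun s => by
    set v := pi s
    let a : Γ(P.obj.left, W) :=
      (WeilCoh.sm q).appLE V W inf_le_right v - (WeilCoh.sm p).appLE V W inf_le_left v ^ Q
    have hGV : V ≤ (WeilCoh.sm G) ⁻¹ᵁ V := fun y hy => by
      change (WeilCoh.sm G ≫ π) y ∈ U
      rw [hG]
      exact hle U hy
    have hGv : (WeilCoh.sm G).appLE V V hGV v = v ^ Q := by
      have h : π.appLE U V le_rfl ≫ (WeilCoh.sm G).appLE V V hGV = FXm.appLE U U (hle U) ≫ π.appLE U V le_rfl := by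
        rw [Scheme.Hom.appLE_comp_appLE, Scheme.Hom.appLE_comp_appLE]
        simp only [hG]
      change (WeilCoh.sm G).appLE V V hGV ((π.appLE U V le_rfl) s) = _
      rw [← ConcreteCategory.comp_apply, h, ConcreteCategory.comp_apply, hFapp, map_pow]
    have hres : ∀ (t : Γ(Xb.obj.left, V)) (y : Xb.obj.left) (hy : y ∈ Wx),
        Xb.obj.left.presheaf.germ Wx y hy (Xb.obj.left.presheaf.map (homOfLE (inf_le_right : Wx ≤ V)).op t) =
          Xb.obj.left.presheaf.germ V y hy.2 t := fun t y hy => TopCat.Presheaf.germ_res_apply _ _ _ _ _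
    have hid : ∀ (b : Xb ⟶ P) (c : P ⟶ Xb) (e : Xb ⟶ Xb) (hbc : b ≫ c = e) (hc : W ≤ (WeilCoh.sm c) ⁻¹ᵁ V)
        (hb : Wx ≤ (WeilCoh.sm b) ⁻¹ᵁ W) (he : V ≤ (WeilCoh.sm e) ⁻¹ᵁ V) (t : Γ(Xb.obj.left, V)),
        (WeilCoh.sm b).appLE W Wx hb ((WeilCoh.sm c).appLE V W hc t) =
          Xb.obj.left.presheaf.map (homOfLE (inf_le_right : Wx ≤ V)).op ((WeilCoh.sm e).appLE V V he t) := by
      intro b c e hbc hc hb he t
      subst hbc
      rw [← ConcreteCategory.comp_apply, ← ConcreteCategory.comp_apply, Scheme.Hom.appLE_comp_appLE, Scheme.Hom.appLE_map]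
      rfl
    have hida : ∀ t : Γ(Xb.obj.left, V), (WeilCoh.sm (𝟙 Xb)).appLE V V le_rfl t = t := fun t => by
      change (Scheme.Hom.appLE (𝟙 Xb.obj.left) V V le_rfl) t = t
      simp [Scheme.Hom.appLE]
      exact ConcreteCategory.congr_hom (Xb.obj.left.presheaf.map_id (Opposite.op V)) t
    have hj0 : (WeilCoh.sm j).appLE W Wx (inf_le_left.trans inf_le_left) a = 0 := by
      simp only [a, map_sub, map_pow]
      rw [hid j q G hjq _ _ hGV, hid j p (𝟙 Xb) hjp _ _ le_rfl, hida, hGv, map_pow, sub_self]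
    have hd0 : Xb.obj.left.presheaf.germ Wx x hxWx ((WeilCoh.sm d).appLE W Wx (inf_le_left.trans inf_le_right) a) =
        germ v - germ v ^ Q := by
      simp only [a, map_sub, map_pow]
      rw [hid d q (𝟙 Xb) hdq _ _ le_rfl, hid d p (𝟙 Xb) hdp _ _ le_rfl, hida, hres]
    rw [← hd0, germ_appLE]
    refine Ideal.mem_map_of_mem _ ?_
    rw [RingHom.mem_ker]
    change P.obj.left.residue ξ (P.obj.left.presheaf.stalkSpecializes _ (P.obj.left.presheaf.germ W _ hdW a)) = 0
    rw [TopCat.Presheaf.germ_stalkSpecializes_apply]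
    apply ((WeilCoh.sm j).residueFieldMap η).hom.injective
    rw [map_zero]
    change (WeilCoh.sm j).residueFieldMap η (P.obj.left.evaluation W ξ hjW a) = 0
    rw [← evaluation_appLE (WeilCoh.sm j) (inf_le_left.trans inf_le_left : Wx ≤ _) hηWx, hj0, map_zero]
  letI : Algebra k Γ(Xb.obj.left, V) := (Groth.L22.SchemeDim.sectHom k Xb.obj.left V).toAlgebra
  have hC : ∀ c : k, germ (algebraMap k _ c) = Curv2.stalkMap k Xb.obj.left x c := fun c => by
    change Xb.obj.left.presheaf.germ V x hxV (Xb.obj.left.presheaf.map _ _) = _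
    rw [TopCat.Presheaf.germ_res_apply]
    rfl
  have hgen : Algebra.adjoin k (Set.range pi) = ⊤ := adjoin_range_appLE (X ↘ Spec (CommRingCat.of k₀)) Xb π hπ hU
  have key : ∀ b, ∃ c : k, germ b - Curv2.stalkMap k Xb.obj.left x c ∈ I := fun b => by
    have hb : b ∈ Algebra.adjoin k (Set.range pi) := hgen ▸ Algebra.mem_top
    induction hb using Algebra.adjoin_induction with
    | algebraMap c => exact ⟨c, by rw [hC, sub_self]; exact I.zero_mem⟩
    | add b b' _ _ h h' =>
      obtain ⟨c, hc⟩ := h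
      obtain ⟨c', hc'⟩ := h'
      refine ⟨c + c', ?_⟩
      rw [map_add, map_add, add_sub_add_comm]
      exact I.add_mem hc hc'
    | mul b b' _ _ h h' =>
      obtain ⟨c, hc⟩ := h
      obtain ⟨c', hc'⟩ := h'
      refine ⟨c * c', ?_⟩
      rw [map_mul, map_mul]
      convert I.add_mem (I.mul_mem_right (germ b') hc) (I.mul_mem_left (Curv2.stalkMap k Xb.obj.left x c) hc') using 1
      ring
    | mem v hv =>
      obtain ⟨s, rfl⟩ := hv
      set v := germ (pi s)
      have hroot : Xb.obj.left.residue x v ^ Q = Xb.obj.left.residue x v := by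
        have h0 := hIm (hgenI s)
        rw [← IsLocalRing.residue_eq_zero_iff, map_sub, map_pow, sub_eq_zero] at h0
        exact h0.symm
      have hint : IsIntegral k (Xb.obj.left.residue x v) := by
        refine ⟨Polynomial.X ^ Q - Polynomial.X, Polynomial.monic_X_pow_sub (by
          rw [Polynomial.degree_X]
          exact_mod_cast Nat.one_lt_pow hm.ne' Finite.one_lt_card), ?_⟩
        rw [← Polynomial.aeval_def]
        simp [hroot]
      obtain ⟨c, hc⟩ := minpoly.mem_range_of_degree_eq_one k (Xb.obj.left.residue x v)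
        (IsAlgClosed.degree_eq_one_of_irreducible k (minpoly.irreducible hint))
      refine ⟨c, ?_⟩
      set C := Curv2.stalkMap k Xb.obj.left x c
      have hCv : Xb.obj.left.residue x C = Xb.obj.left.residue x v := hc
      have hcQ : C ^ Q = C := by
        rw [← map_pow]
        refine congrArg _ ((algebraMap k (Xb.obj.left.residueField x)).injective ?_)
        rw [map_pow, hc, hroot]
      set S := ∑ i ∈ Finset.range Q, v ^ i * C ^ (Q - 1 - i)
      have hS : Xb.obj.left.residue x S = 0 := by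
        simp only [S, map_sum, map_mul, map_pow, hCv]
        rw [geom_sum₂_self, hQ0, zero_mul]
      have hu : IsUnit (1 - S) := by
        by_contra hu
        have h1 : Xb.obj.left.residue x (1 - S) = 0 := (IsLocalRing.residue_eq_zero_iff _).mpr hu
        rw [map_sub, hS, sub_zero, map_one] at h1
        exact _root_.one_ne_zero h1
      have e : (v - C) * (1 - S) = v - v ^ Q := by
        have := geom_sum₂_mul v C Q
        rw [hcQ] at this
        linear_combination -this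
      exact (Ideal.mul_unit_mem_iff_mem I hu).mp (e ▸ hgenI s)
  letI : Algebra Γ(Xb.obj.left, V) (Xb.obj.left.presheaf.stalk x) :=
    TopCat.Presheaf.algebra_section_stalk Xb.obj.left.presheaf ⟨x, hxV⟩
  haveI := hV.isLocalization_stalk ⟨x, hxV⟩
  have hmax : I = IsLocalRing.maximalIdeal _ := by
    refine le_antisymm hIm fun z hz => ?_
    obtain ⟨r, s, rfl⟩ := IsLocalization.exists_mk'_eq (hV.primeIdealOf ⟨x, hxV⟩).asIdeal.primeCompl z
    have hr : IsLocalization.mk' (Xb.obj.left.presheaf.stalk x) r s * germ s = germ r :=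
      IsLocalization.mk'_spec (Xb.obj.left.presheaf.stalk x) r s
    have hsu : IsUnit (germ (s : Γ(Xb.obj.left, V))) := IsLocalization.map_units (Xb.obj.left.presheaf.stalk x) s
    obtain ⟨c, hc⟩ := key r
    have h0 : germ r ∈ IsLocalRing.maximalIdeal _ := hr ▸ Ideal.mul_mem_right _ _ hz
    have h1 : Curv2.stalkMap k Xb.obj.left x c ∈ IsLocalRing.maximalIdeal _ := by
      simpa using sub_mem h0 (hIm hc)
    have h2 : c = 0 := by
      by_contra hne
      exact h1 ((IsUnit.mk0 c hne).map _)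
    rw [h2, map_zero, sub_zero, ← hr] at hc
    exact (Ideal.mul_unit_mem_iff_mem I hsu).mp hc
  have hsurj : Function.Surjective (algebraMap k (Xb.obj.left.residueField x)) := fun z => by
    obtain ⟨z, rfl⟩ := Xb.obj.left.residue_surjective x z
    obtain ⟨r, s, rfl⟩ := IsLocalization.exists_mk'_eq (hV.primeIdealOf ⟨x, hxV⟩).asIdeal.primeCompl z
    obtain ⟨c, hc⟩ := key r
    obtain ⟨e, he⟩ := key s
    have hval : ∀ {b : Γ(Xb.obj.left, V)} {c : k}, germ b - Curv2.stalkMap k Xb.obj.left x c ∈ I →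
        Xb.obj.left.residue x (germ b) = algebraMap k _ c := fun h => by
      have h0 := hIm h
      rw [← IsLocalRing.residue_eq_zero_iff, map_sub, sub_eq_zero] at h0
      exact h0
    have hsu : IsUnit (germ (s : Γ(Xb.obj.left, V))) := IsLocalization.map_units (Xb.obj.left.presheaf.stalk x) s
    have he0 : algebraMap k (Xb.obj.left.residueField x) e ≠ 0 := by
      rw [← hval he]; exact (hsu.map _).ne_zero
    refine ⟨c / e, ?_⟩
    rw [map_div₀, div_eq_iff he0, ← hval hc, ← hval he, ← map_mul]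
    exact congrArg _ (IsLocalization.mk'_spec (Xb.obj.left.presheaf.stalk x) r s).symm
  refine ⟨(Points.isClosed_iff_finite (k₀ := k) x).mpr (Module.Finite.of_surjective (Algebra.linearMap k _) hsurj), ?_⟩
  rw [WeilCoh.preimMult, ← hI, hmax, Module.length_eq_one_iff.mpr
    (isSimpleModule_iff_isCoatom.mpr (IsLocalRing.maximalIdeal.isMaximal _).out)]
  rfl

variable {K : Type v} [Field K] (T : WeilCoh.TheoryOn.{u, v, w} k (WeilCoh.IsVar k) K)

include hFb hle hFapp hπ hG hP hjp hjq hdp hdq in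
/-- The trace formula counts the rational points. -/
theorem tr_graph_diag_eq_nPts (hm : 0 < m) :
    T.tr P (T.cl P (WeilCoh.sm j (genericPoint ↥Xb.obj.left)) * T.cl P (WeilCoh.sm d (genericPoint ↥Xb.obj.left))) =
      (Zeta.nPts (X ↘ Spec (CommRingCat.of k₀)) m : K) := by
  classical
  set η := genericPoint ↥Xb.obj.left
  set S := (WeilCoh.sm d) ⁻¹' closure ({WeilCoh.sm j η} : Set P.obj.left)
  have hpt := fixed_point FXm hFb hle hFapp Xb π hπ G hG p q j d hjp hjq hdp hdq hm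
  have hcomp : ∀ x, WeilCoh.IsCompPt S x ↔ x ∈ S := fun x =>
    ⟨fun h => h.1, fun h => ⟨h, fun w hw hsp => (hsp.mem_closed (hpt w hw).1 rfl).symm⟩⟩
  -- the fixed points are the fixed `k`-points of `X`
  let g : S → (Spec (CommRingCat.of k) ⟶ Xb.obj.left) := fun x => pointOfClosedPoint Xb.obj.hom x.1 (hpt x.1 x.2).1
  have hgh : ∀ x, g x ≫ Xb.obj.hom = 𝟙 _ := fun x => pointOfClosedPoint_comp _ _ _
  have hcl : ∀ x, g x (IsLocalRing.closedPoint k) = x.1 := fun x => pointOfClosedPoint_apply _ _ _ _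
  let φ := Points.frobPow (k₀ := k₀) k m
  have hφ : ∀ h : Spec (CommRingCat.of k) ⟶ X, h ≫ FXm = Spec.map (CommRingCat.ofHom φ) ≫ h :=
    point_comp_powMap FXm hFb hle hFapp φ (Points.frobPow_apply m)
  have hGfix : ∀ x : S, g x ≫ WeilCoh.sm G = g x := fun x => by
    refine ext_of_apply_closedPoint_eq Xb.obj.hom ?_ (hgh x) ?_
    · rw [Category.assoc, Over.w]; exact hgh x
    · rw [Scheme.Hom.comp_apply, hcl]
      have hx := (mem_preimage_iff Xb p j d hjp hdp x.1).mp x.2
      rw [← hjq, sm_comp, Scheme.Hom.comp_apply, ← hx]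
      change (WeilCoh.sm d ≫ WeilCoh.sm q) x.1 = _
      rw [← sm_comp, hdq]; rfl
  obtain ⟨hfin, hcard⟩ := Points.card_fixed_points (k₀ := k₀) (k := k) (X := X) hm
  let Φ : S → {h : Spec (CommRingCat.of k) ⟶ X //
      h ≫ (X ↘ Spec (CommRingCat.of k₀)) = Spec.map (CommRingCat.ofHom (algebraMap k₀ k)) ∧
        Spec.map (CommRingCat.ofHom φ) ≫ h = h} := fun x => ⟨g x ≫ π,
    by rw [Category.assoc, hπ.w, ← Category.assoc, hgh, Category.id_comp],
    by rw [← hφ, Category.assoc, ← hG, ← Category.assoc, hGfix]⟩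
  have hΦ : Function.Bijective Φ := by
    refine ⟨fun x x' h => ?_, fun ⟨h, hh, hfix⟩ => ?_⟩
    · refine Subtype.ext ?_
      rw [← hcl x, ← hcl x', hπ.hom_ext (congrArg Subtype.val h :) ((hgh x).trans (hgh x').symm)]
    · let g' := hπ.lift h (𝟙 _) (by rw [hh, Category.id_comp])
      have hg'π : g' ≫ π = h := hπ.lift_fst _ _ _
      have hg'h : g' ≫ Xb.obj.hom = 𝟙 _ := hπ.lift_snd _ _ _
      have hg'G : g' ≫ WeilCoh.sm G = g' := hπ.hom_ext
        (by rw [Category.assoc, hG, ← Category.assoc, hg'π, hφ, hfix]) (by rw [Category.assoc, Over.w])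
      have hjd : g' ≫ WeilCoh.sm j = g' ≫ WeilCoh.sm d := by
        refine hP.hom_ext ?_ ?_
        · rw [Category.assoc, Category.assoc, ← sm_comp, ← sm_comp, hjp, hdp]
        · rw [Category.assoc, Category.assoc, ← sm_comp, ← sm_comp, hjq, hdq, hg'G]
          exact (Category.comp_id g').symm
      have hxS : g' (IsLocalRing.closedPoint k) ∈ S := (mem_preimage_iff Xb p j d hjp hdp _).mpr
        (congrArg (fun φ : Spec (CommRingCat.of k) ⟶ P.obj.left => φ (IsLocalRing.closedPoint k)) hjd).symm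
      refine ⟨⟨_, hxS⟩, Subtype.ext ?_⟩
      change g ⟨_, hxS⟩ ≫ π = h
      rw [ext_of_apply_closedPoint_eq Xb.obj.hom (hgh ⟨_, hxS⟩) hg'h (hcl _), hg'π]
  haveI : Finite S := Finite.of_injective Φ hΦ.1
  haveI : Finite {w : Xb.obj.left // WeilCoh.IsCompPt S w} :=
    Finite.of_injective (fun w => (⟨w.1, w.2.1⟩ : S)) fun a b h => Subtype.ext (congrArg Subtype.val h :)
  haveI := Fintype.ofFinite {w : Xb.obj.left // WeilCoh.IsCompPt S w}
  have hgr : T.cl P (WeilCoh.sm j η) ∈ T.gr P (top Xb) := graph_mem T hP j hjp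
  have hpull := T.cl_pull d (WeilCoh.sm j η) (fun w hw => by
      rw [pdim_of_isClosed _ (hpt w hw.1).1, pdim_section j p hjp, pdim_genericPoint]
      have := top_prod T hP
      simp only [top] at this
      omega)
    (Or.inr fun w hw => (hpt w hw.1).2)
  have hpush := T.cl_push d η (T.cl P (WeilCoh.sm j η)) (by rw [pdim_genericPoint]; exact hgr)
  rw [cl_genericPoint, one_mul, residueDegree_section d p hdp, Nat.cast_one, one_mul, hpull,
    finsum_eq_sum_of_fintype, map_sum] at hpush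
  rw [comm_of_even T hgr (T.cl_mem P _) (even_two_mul _), ← hpush,
    Finset.sum_congr rfl fun w _ => (by
      rw [(hpt w.1 w.2.1).2, Nat.cast_one, one_smul, tr_cl_closedPoint T Xb (hpt w.1 w.2.1).1] :
      T.tr Xb ((WeilCoh.preimMult (WeilCoh.sm d) (WeilCoh.sm j η) w.1 w.2.1 : K) • T.cl Xb w.1) = 1),
    Finset.sum_const, nsmul_one, Finset.card_univ, ← Nat.card_eq_fintype_card]
  congr 1
  rw [← hcard, ← Nat.card_congr (Equiv.ofBijective Φ hΦ)]
  exact Nat.card_congr (Equiv.subtypeEquivRight hcomp)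

end

end Groth.L11.Weil
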