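import Groth.Prelude.Def_WeilCoh
import Mathlib.LinearAlgebra.Dual.Lemmas
import Mathlib.LinearAlgebra.FiniteDimensional.Lemmas

/-!
Formal consequences of the axioms of a Weil cohomology theory: the push-forward is characterised by
the trace pairing, classes are determined by the pairing, `H^0` is one-dimensional.
-/

set_option autoImplicit false
universe u v w

open AlgebraicGeometry CategoryTheory TensorProduct

namespace Groth.L11.Weil

variable {k : Type u} [Field k] {P : ObjectProperty (Over (Spec (CommRingCat.of k)))}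
variable {K : Type v} [Field K] (T : WeilCoh.TheoryOn.{u, v, w} k P K)

/-- `2 dim X` as an integer. -/
noncomputable abbrev top (X : P.FullSubcategory) : ℤ := 2 * (WeilCoh.dim X.obj.left : ℤ)

theorem pairing_apply {X : P.FullSubcategory} (i j : ℤ) (a : T.gr X i) (b : T.gr X j) :
    WeilCoh.pairing K (T.gr X i) (T.gr X j) (T.tr X) a b = T.tr X ((a : T.H X) * b) := rfl

theorem tr_push {X Y : P.FullSubcategory} (f : X ⟶ Y) (i : ℤ) (a : T.gr X i) (b : T.H Y)
    (hb : b ∈ T.gr Y (top X - i)) :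
    T.tr Y ((T.push f i a : T.H Y) * b) = T.tr X ((a : T.H X) * T.pull f b) := by
  haveI := T.duality Y (i + 2 * (WeilCoh.dim Y.obj.left : ℤ) - 2 * (WeilCoh.dim X.obj.left : ℤ))
    (2 * (WeilCoh.dim X.obj.left : ℤ) - i) (by omega)
  exact LinearMap.congr_fun (LinearMap.apply_symm_toPerfPair_self (p := WeilCoh.pairing K _ (T.gr Y (2 * (WeilCoh.dim X.obj.left : ℤ) - i)) (T.tr Y)) (T.pushFunctional f i a)) ⟨b, hb⟩

/-- A homogeneous class orthogonal to the complementary degree vanishes. -/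
theorem eq_zero_of_tr {X : P.FullSubcategory} {m m' : ℤ} (hm : m + m' = top X) {x : T.H X}
    (hx : x ∈ T.gr X m) (h : ∀ b ∈ T.gr X m', T.tr X (x * b) = 0) : x = 0 := by
  haveI := T.duality X m m' hm
  have h0 : (⟨x, hx⟩ : T.gr X m) = 0 := by
    apply (WeilCoh.pairing K (T.gr X m) (T.gr X m') (T.tr X)).toPerfPair.injective
    rw [map_zero]
    exact LinearMap.ext fun b => h b b.2
  exact congrArg Subtype.val h0

theorem eq_of_tr {X : P.FullSubcategory} {m m' : ℤ} (hm : m + m' = top X) {x y : T.H X}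
    (hx : x ∈ T.gr X m) (hy : y ∈ T.gr X m) (h : ∀ b ∈ T.gr X m', T.tr X (x * b) = T.tr X (y * b)) :
    x = y :=
  sub_eq_zero.mp (eq_zero_of_tr T hm (sub_mem hx hy) fun b hb => by rw [sub_mul, map_sub, h b hb, sub_self])

theorem finrank_eq {X : P.FullSubcategory} {i j : ℤ} (h : i + j = top X) :
    Module.finrank K (T.gr X i) = Module.finrank K (T.gr X j) := by
  haveI := T.duality X i j h
  rw [(WeilCoh.pairing K (T.gr X i) (T.gr X j) (T.tr X)).toPerfPair.finrank_eq, Subspace.dual_finrank_eq]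

theorem finrank_top (X : P.FullSubcategory) : Module.finrank K (T.gr X (top X)) = 1 := by
  rw [(LinearEquiv.ofBijective _ (T.tr_bijective X)).finrank_eq, Module.finrank_self]

theorem finrank_zero (X : P.FullSubcategory) : Module.finrank K (T.gr X 0) = 1 := by
  rw [finrank_eq T (j := top X) (zero_add _), finrank_top]

theorem exists_top (X : P.FullSubcategory) : ∃ ω ∈ T.gr X (top X), T.tr X ω = 1 := by
  obtain ⟨⟨ω, hω⟩, h⟩ := (T.tr_bijective X).2 1
  exact ⟨ω, hω, h⟩

theorem one_ne_zero (X : P.FullSubcategory) : (1 : T.H X) ≠ 0 := by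
  obtain ⟨ω, _, hω⟩ := exists_top T X
  intro h
  rw [← one_mul ω, h, zero_mul, map_zero] at hω
  exact zero_ne_one hω

theorem exists_smul_one {X : P.FullSubcategory} {x : T.H X} (hx : x ∈ T.gr X 0) :
    ∃ c : K, x = c • (1 : T.H X) := by
  have h1 : (1 : T.H X) ∈ T.gr X 0 := SetLike.one_mem_graded (T.gr X)
  obtain ⟨c, hc⟩ := exists_smul_eq_of_finrank_eq_one (finrank_zero T X)
    (fun h => one_ne_zero T X (congrArg Subtype.val h) : (⟨1, h1⟩ : T.gr X 0) ≠ 0) ⟨x, hx⟩
  exact ⟨c, (congrArg Subtype.val hc).symm⟩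

theorem mem_congr {X : P.FullSubcategory} {i j : ℤ} (h : i = j) {x : T.H X} (hx : x ∈ T.gr X i) :
    x ∈ T.gr X j := h ▸ hx

theorem mul_mem {X : P.FullSubcategory} {i j : ℤ} {x y : T.H X} (hx : x ∈ T.gr X i) (hy : y ∈ T.gr X j) :
    x * y ∈ T.gr X (i + j) := SetLike.mul_mem_graded hx hy

theorem comm_of_mem {X : P.FullSubcategory} {i j : ℤ} {a b : T.H X} (ha : a ∈ T.gr X i) (hb : b ∈ T.gr X j) :
    a * b = ((-1 : K) ^ (i.natAbs * j.natAbs)) • (b * a) := T.gradedComm X i j a b ha hb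

theorem comm_of_even {X : P.FullSubcategory} {i j : ℤ} {a b : T.H X} (ha : a ∈ T.gr X i) (hb : b ∈ T.gr X j)
    (hi : Even i) : a * b = b * a := by
  rw [comm_of_mem T ha hb, Even.neg_one_pow, one_smul]
  exact (Int.natAbs_even.mpr hi).mul_right _

include T in
/-- The dimension of a product is the sum of the dimensions. -/
theorem top_prod {X Y Q : P.FullSubcategory} {p : Q ⟶ X} {q : Q ⟶ Y} (h : WeilCoh.IsProd p q) :
    top X + top Y = top Q := by
  obtain ⟨a, ha, ha1⟩ := exists_top T X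
  obtain ⟨b, hb, hb1⟩ := exists_top T Y
  by_contra hne
  have h0 := T.tr_vanish Q _ _ (mul_mem T (T.pull_mem p _ a ha) (T.pull_mem q _ b hb)) hne
  rw [T.tr_prod p q h a b ha hb, ha1, hb1, one_mul] at h0
  exact _root_.one_ne_zero h0

theorem eq_zero_of_vanish {X : P.FullSubcategory} {i : ℤ} (h : i < 0 ∨ top X < i) {x : T.H X}
    (hx : x ∈ T.gr X i) : x = 0 := by
  rw [T.vanish X i h] at hx
  exact hx

end Groth.L11.Weil
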