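import Groth.Agent.L11.Weil.ZetaFun
import Mathlib.Data.Int.Interval

/-!
Algebraic correspondences given by polynomials in an endomorphism; Künneth projectors.
-/

set_option autoImplicit false
universe u v w

open AlgebraicGeometry CategoryTheory

namespace Groth.L11.Weil

variable {k : Type u} [Field k] [IsAlgClosed k] {K : Type v} [Field K]
  (T : WeilCoh.TheoryOn.{u, v, w} k (WeilCoh.IsVar k) K)

/-- The graph of a morphism into a product. -/
theorem exists_lift {X Y Z P : WeilCoh.Var k} {p : P ⟶ X} {q : P ⟶ Y} (hP : WeilCoh.IsProd p q)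
    (a : Z ⟶ X) (b : Z ⟶ Y) : ∃ j : Z ⟶ P, j ≫ p = a ∧ j ≫ q = b := by
  refine ⟨ObjectProperty.homMk (Over.homMk
    (hP.lift (WeilCoh.sm a) (WeilCoh.sm b) (by rw [Over.w, Over.w]))
    (by rw [← Over.w p.hom, ← Category.assoc]
        exact (congrArg (· ≫ X.obj.hom) (hP.lift_fst _ _ _)).trans (Over.w a.hom))), ?_, ?_⟩
  · exact ObjectProperty.hom_ext _ (Over.OverMorphism.ext (hP.lift_fst _ _ _))
  · exact ObjectProperty.hom_ext _ (Over.OverMorphism.ext (hP.lift_snd _ _ _))

theorem exists_pow {X : WeilCoh.Var k} (F : X ⟶ X) (m : ℕ) :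
    ∃ G : X ⟶ X, ∀ i, T.pullDeg G i = (T.pullDeg F i) ^ m := by
  induction m with
  | zero => exact ⟨𝟙 X, fun i => by rw [pullDeg_id, pow_zero]; rfl⟩
  | succ m ih =>
    obtain ⟨G, hG⟩ := ih
    exact ⟨F ≫ G, fun i => by rw [pullDeg_comp, hG, pow_succ']; rfl⟩

variable [CharZero K] {X P : WeilCoh.Var k} {p q : P ⟶ X}

omit [CharZero K] in
/-- A polynomial in an endomorphism acts by an algebraic correspondence. -/
theorem exists_corr_aeval (hP : WeilCoh.IsProd p q) (F : X ⟶ X) (R : Polynomial K) :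
    ∃ u : ↥(T.gr P (2 * (WeilCoh.dim X.obj.left : ℤ))),
      (u : T.H P) ∈ Submodule.span K (Set.range (T.cl P)) ∧
        ∀ (j : ℤ) (b : ↥(T.gr X j)),
          (T.push q (j + 2 * (WeilCoh.dim X.obj.left : ℤ))
              ⟨T.pull p (b : T.H X) * (u : T.H P),
                SetLike.mul_mem_graded (T.pull_mem p j b b.2) u.2⟩ : T.H X) =
            (Polynomial.aeval (T.pullDeg F j) R b : T.H X) := by
  classical
  choose G hG using exists_pow T F
  choose γ hγq hγp using fun m => exists_lift (p := q) (q := p) hP.flip (𝟙 X) (G m)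
  let Γ : ℕ → T.H P := fun m => T.cl P (WeilCoh.sm (γ m) (genericPoint ↥X.obj.left))
  have hΓ : ∀ m, Γ m ∈ T.gr P (top X) := fun m => graph_mem T hP.flip (γ m) (hγq m)
  have hmem : (∑ m ∈ R.support, R.coeff m • Γ m) ∈ T.gr P (top X) :=
    Submodule.sum_mem _ fun m _ => Submodule.smul_mem _ _ (hΓ m)
  refine ⟨⟨_, hmem⟩, Submodule.sum_mem _ fun m _ =>
    Submodule.smul_mem _ _ (Submodule.subset_span ⟨_, rfl⟩), fun j b => ?_⟩
  have hdim : top X + top X = top P := top_prod T hP
  refine eq_of_tr T (m := j) (m' := top X - j) (by ring)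
    (mem_congr T (by simp only [top] at hdim ⊢; omega) (T.push q (j + 2 * (WeilCoh.dim X.obj.left : ℤ)) _).2)
    (Polynomial.aeval (T.pullDeg F j) R b).2 fun c hc => ?_
  rw [tr_push T q _ _ c (mem_congr T (by simp only [top] at hdim ⊢; omega) hc)]
  have key : ∀ m, T.tr P (T.pull p (b : T.H X) * Γ m * T.pull q c) =
      T.tr X (((T.pullDeg F j ^ m) b : T.H X) * c) := fun m => by
    rw [← hG m j, ← comm_of_even T (hΓ m) (T.pull_mem p j b b.2) (even_two_mul _), mul_assoc,
      comm_of_mem T (T.pull_mem p j b b.2) (T.pull_mem q _ c hc), mul_smul_comm, map_smul,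
      tr_graph_mul T (G m) (γ m) (hγq m) (hγp m) hc b.2 (by ring),
      comm_of_mem T hc (T.pull_mem (G m) j b b.2), map_smul, ← mul_smul, Nat.mul_comm j.natAbs]
    change _ = T.tr X (T.pull (G m) (b : T.H X) * c)
    rw [← pow_add, ← two_mul, pow_mul, neg_one_sq, one_pow, one_smul]
  change T.tr P (T.pull p (b : T.H X) * (∑ m ∈ R.support, R.coeff m • Γ m) * T.pull q c) = _
  rw [Finset.mul_sum, Finset.sum_mul, map_sum, Polynomial.aeval_eq_sum_range, LinearMap.sum_apply]
  rw [Submodule.coe_sum, Finset.sum_mul, map_sum]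
  refine Finset.sum_subset_zero_on_sdiff (fun m hm => Finset.mem_range.mpr
    (Nat.lt_succ_of_le (Polynomial.le_natDegree_of_mem_supp m hm))) (fun m hm => ?_) fun m _ => ?_
  · rw [Polynomial.notMem_support_iff.mp (Finset.mem_sdiff.mp hm).2, zero_smul]
    simp
  · rw [mul_smul_comm, smul_mul_assoc, map_smul, key, LinearMap.smul_apply, Submodule.coe_smul, smul_mul_assoc,
      map_smul]

omit [CharZero K] in
/-- Künneth projectors are algebraic when the characteristic polynomials are coprime. -/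
theorem exists_kunneth_projector (hP : WeilCoh.IsProd p q) (F : X ⟶ X)
    (hF : ∀ i j : ℤ, i ≠ j → IsCoprime (T.pullDeg F i).charpoly (T.pullDeg F j).charpoly) (i : ℤ) :
    ∃ u : ↥(T.gr P (2 * (WeilCoh.dim X.obj.left : ℤ))),
      (u : T.H P) ∈ Submodule.span K (Set.range (T.cl P)) ∧
        ∀ (j : ℤ) (b : ↥(T.gr X j)),
          (T.push q (j + 2 * (WeilCoh.dim X.obj.left : ℤ))
              ⟨T.pull p (b : T.H X) * (u : T.H P),
                SetLike.mul_mem_graded (T.pull_mem p j b b.2) u.2⟩ : T.H X) =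
            if j = i then (b : T.H X) else 0 := by
  classical
  set χ : ℤ → Polynomial K := fun j => (T.pullDeg F j).charpoly
  set Q := ∏ j ∈ (Finset.Icc 0 (top X)).erase i, χ j
  obtain ⟨a, c, hac⟩ : IsCoprime (χ i) Q :=
    IsCoprime.prod_right fun j hj => hF i j (Finset.ne_of_mem_erase hj).symm
  obtain ⟨u, hu, hact⟩ := exists_corr_aeval T hP F (c * Q)
  refine ⟨u, hu, fun j b => ?_⟩
  rw [hact]
  by_cases hj : j ∈ Finset.Icc 0 (top X)
  · by_cases hji : j = i
    · subst hji
      rw [if_pos rfl, eq_sub_of_add_eq' hac, map_sub, map_one, map_mul,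
        show Polynomial.aeval (T.pullDeg F j) (χ j) = 0 from LinearMap.aeval_self_charpoly _, mul_zero]
      simp
    · obtain ⟨d, hd⟩ : χ j ∣ Q := Finset.dvd_prod_of_mem _ (Finset.mem_erase.mpr ⟨hji, hj⟩)
      rw [if_neg hji, hd, map_mul, map_mul,
        show Polynomial.aeval (T.pullDeg F j) (χ j) = 0 from LinearMap.aeval_self_charpoly _, zero_mul, mul_zero]
      rfl
  · have hj' : j < 0 ∨ top X < j := by
      rw [Finset.mem_Icc] at hj
      omega
    rw [eq_zero_of_vanish T hj' (Polynomial.aeval (T.pullDeg F j) (c * Q) b).2, eq_zero_of_vanish T hj' b.2,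
      ite_self]

end Groth.L11.Weil
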