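import Groth.Agent.L11.Weil.Trace

/-!
The trace formula for the composite of two correspondences.
-/

set_option autoImplicit false
universe u v w

open AlgebraicGeometry CategoryTheory

namespace Groth.L11.Weil

variable {k : Type u} [Field k] {K : Type v} [Field K] (T : WeilCoh.TheoryOn.{u, v, w} k (WeilCoh.IsVar k) K)
variable {X Y P : WeilCoh.Var k} {p : P ⟶ X} {q : P ⟶ Y}

/-- A homogeneous class on a product is a combination of products of homogeneous classes. -/
theorem exists_decomposition (hP : WeilCoh.IsProd p q) {m : ℤ} {x : T.H P} (hx : x ∈ T.gr P m) :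
    ∃ (N : ℕ) (α : Fin N → ℤ) (a : Fin N → T.H X) (b : Fin N → T.H Y),
      (∀ l, a l ∈ T.gr X (α l)) ∧ (∀ l, b l ∈ T.gr Y (m - α l)) ∧ x = ∑ l, T.pull p (a l) * T.pull q (b l) := by
  classical
  set s : Set (T.H P) := {y | ∃ (i : ℤ) (a : T.H X) (b : T.H Y), a ∈ T.gr X i ∧ b ∈ T.gr Y (m - i) ∧
    T.pull p a * T.pull q b = y} with hs
  have hsm : Submodule.span K s ≤ T.gr P m := Submodule.span_le.mpr fun y ⟨i, a, b, ha, hb, hy⟩ =>
    hy ▸ mem_congr T (by ring) (mul_mem T (T.pull_mem p _ a ha) (T.pull_mem q _ b hb))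
  have hall : ∀ z, z ∈ Submodule.span K s ⊔ ⨆ j, ⨆ _ : j ≠ m, T.gr P j := fun z => by
    obtain ⟨t, rfl⟩ := (T.kunneth p q hP).2 z
    induction t using TensorProduct.induction_on with
    | zero => simp
    | add y y' hy hy' => rw [map_add]; exact add_mem hy hy'
    | tmul a b =>
      change T.pull p a * T.pull q b ∈ _
      have ha : a ∈ ⨆ i, T.gr X i := (T.decomp X).submodule_iSup_eq_top ▸ Submodule.mem_top
      refine Submodule.iSup_induction _ (motive := fun a => T.pull p a * T.pull q b ∈ _) ha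
        (fun i a ha => ?_) (by simp) (fun a a' h₁ h₂ => by rw [map_add, add_mul]; exact add_mem h₁ h₂)
      have hb : b ∈ ⨆ i, T.gr Y i := (T.decomp Y).submodule_iSup_eq_top ▸ Submodule.mem_top
      refine Submodule.iSup_induction _ (motive := fun b => T.pull p a * T.pull q b ∈ _) hb
        (fun j b hb => ?_) (by simp) (fun b b' h₁ h₂ => by rw [map_add, mul_add]; exact add_mem h₁ h₂)
      by_cases hj : i + j = m
      · exact Submodule.mem_sup_left (Submodule.subset_span ⟨i, a, b, ha, mem_congr T (by omega) hb, rfl⟩)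
      · exact Submodule.mem_sup_right (Submodule.mem_iSup_of_mem (i + j) (Submodule.mem_iSup_of_mem hj
          (mul_mem T (T.pull_mem p _ a ha) (T.pull_mem q _ b hb))))
  obtain ⟨y, hy, z, hz, hxy⟩ := Submodule.mem_sup.mp (hall x)
  have hz0 : z = 0 := Submodule.disjoint_def.mp ((T.decomp P).submodule_iSupIndep m) z
    (by rw [eq_sub_of_add_eq' hxy]; exact sub_mem hx (hsm hy)) hz
  rw [hz0, add_zero] at hxy
  subst hxy
  obtain ⟨N, c, g, hg⟩ := Submodule.mem_span_set'.mp hy
  choose α a b ha hb hab using fun l => (g l).2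
  exact ⟨N, α, fun l => c l • a l, b, fun l => Submodule.smul_mem _ _ (ha l), hb,
    by rw [← hg]; simp only [map_smul, smul_mul_assoc, hab]⟩

theorem tr_pull_mul_pull (hP : WeilCoh.IsProd p q) {r s : ℤ} {A : T.H X} {B : T.H Y} (hA : A ∈ T.gr X r)
    (hB : B ∈ T.gr Y s) : T.tr P (T.pull p A * T.pull q B) = T.tr X A * T.tr Y B := by
  have htop := top_prod T hP
  by_cases hr : r = top X
  · by_cases hs : s = top Y
    · exact T.tr_prod p q hP A B (mem_congr T hr hA) (mem_congr T hs hB)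
    · rw [T.tr_vanish Y _ B hB hs, mul_zero]
      exact T.tr_vanish P _ _ (mul_mem T (T.pull_mem p _ A hA) (T.pull_mem q _ B hB)) (by simp only [top] at *; omega)
  · rw [T.tr_vanish X _ A hA hr, zero_mul]
    by_cases hrs : r + s = top P
    · rcases lt_or_gt_of_ne hr with hlt | hgt
      · rw [eq_zero_of_vanish T (Or.inr (show top Y < s by omega)) hB]; simp
      · rw [eq_zero_of_vanish T (Or.inr hgt) hA]; simp
    · exact T.tr_vanish P _ _ (mul_mem T (T.pull_mem p _ A hA) (T.pull_mem q _ B hB)) hrs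

/-- The action of a correspondence given by a decomposition. -/
theorem push_corr (hP : WeilCoh.IsProd p q) {ι : Type} [Fintype ι] {m i : ℤ} {α : ι → ℤ} {a : ι → T.H X}
    {b : ι → T.H Y} (ha : ∀ l, a l ∈ T.gr X (α l)) (hb : ∀ l, b l ∈ T.gr Y (m - α l)) {x : T.H X}
    (hx : x ∈ T.gr X i) (z : ↥(T.gr P (i + m)))
    (hz : (z : T.H P) = T.pull p x * ∑ l, T.pull p (a l) * T.pull q (b l)) :
    (T.push q (i + m) z : T.H Y) = ∑ l, T.tr X (x * a l) • b l := by
  have htop := top_prod T hP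
  simp only [top] at htop
  refine eq_of_tr T (m' := top P - (i + m)) (by simp only [top]; omega) (T.push q (i + m) z).2
    (Submodule.sum_mem _ fun l _ => ?_) fun c hc => ?_
  · by_cases h : i + α l = top X
    · exact Submodule.smul_mem _ _ (mem_congr T (by simp only [top] at h; omega) (hb l))
    · rw [T.tr_vanish X _ _ (mul_mem T hx (ha l)) h, zero_smul]
      exact zero_mem _
  · rw [tr_push T q _ z c hc, hz, Finset.mul_sum, Finset.sum_mul, Finset.sum_mul, map_sum, map_sum]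
    refine Finset.sum_congr rfl fun l _ => ?_
    rw [smul_mul_assoc, map_smul, smul_eq_mul, ← mul_assoc, ← map_mul, mul_assoc, ← map_mul,
      tr_pull_mul_pull T hP (mul_mem T hx (ha l)) (mul_mem T (hb l) hc)]

/-- The trace formula for two correspondences. -/
theorem tr_mul_pull_swap (hP : WeilCoh.IsProd p q) {P' : WeilCoh.Var k} {p' : P' ⟶ Y} {q' : P' ⟶ X}
    (hP' : WeilCoh.IsProd p' q') (σ : P ⟶ P') (hσ₁ : σ ≫ p' = q) (hσ₂ : σ ≫ q' = p) {m m' : ℤ}
    (hmm : m + m' = top X + top Y) (φ : ↥(T.gr P m)) (ψ : ↥(T.gr P' m'))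
    (L : (i : ℕ) → (↥(T.gr X (i : ℤ)) →ₗ[K] ↥(T.gr X (i : ℤ))))
    (hL : ∀ (i : ℕ) (x : ↥(T.gr X (i : ℤ))), ∃ (j : ℤ) (y : ↥(T.gr Y j)) (z : ↥(T.gr P ((i : ℤ) + m)))
      (z' : ↥(T.gr P' (j + m'))), (z : T.H P) = T.pull p (x : T.H X) * (φ : T.H P) ∧
      (y : T.H Y) = (T.push q ((i : ℤ) + m) z : T.H Y) ∧ (z' : T.H P') = T.pull p' (y : T.H Y) * (ψ : T.H P') ∧
      (L i x : T.H X) = (T.push q' (j + m') z' : T.H X)) :
    T.tr P ((φ : T.H P) * T.pull σ (ψ : T.H P')) =
      ∑ i ∈ Finset.range (2 * WeilCoh.dim X.obj.left + 1),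
        (-1 : K) ^ i * LinearMap.trace K ↥(T.gr X (i : ℤ)) (L i) := by
  classical
  obtain ⟨N, α, a, b, ha, hb, hφ⟩ := exists_decomposition T hP φ.2
  obtain ⟨M, γ, c, d, hc, hd, hψ⟩ := exists_decomposition T hP' ψ.2
  let D : (i : ℕ) → Fin M → ↥(T.gr X (i : ℤ)) := fun i l' =>
    if h : m' - γ l' = i then ⟨d l', mem_congr T h (hd l')⟩ else 0
  let ev : (i : ℕ) → Fin N → (↥(T.gr X (i : ℤ)) →ₗ[K] K) := fun i l =>
    T.tr X ∘ₗ LinearMap.mulRight K (a l) ∘ₗ (T.gr X (i : ℤ)).subtype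
  have hLeq : ∀ i : ℕ, L i = ∑ l, ∑ l', T.tr Y (b l * c l') • (ev i l).smulRight (D i l') := fun i => by
    refine LinearMap.ext fun x => Subtype.ext ?_
    obtain ⟨j, y, z, z', hz, hy, hz', hx⟩ := hL i x
    rw [push_corr T hP ha hb x.2 z (by rw [hz, hφ])] at hy
    rw [hx, push_corr T hP' hc hd y.2 z' (by rw [hz', hψ]), hy]
    simp only [LinearMap.sum_apply, Submodule.coe_sum, LinearMap.smul_apply, LinearMap.smulRight_apply,
      Submodule.coe_smul, Finset.sum_mul, smul_mul_assoc, map_sum, map_smul, Finset.sum_smul, smul_eq_mul]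
    rw [Finset.sum_comm]
    refine Finset.sum_congr rfl fun l _ => Finset.sum_congr rfl fun l' _ => ?_
    change _ = T.tr Y (b l * c l') • T.tr X ((x : T.H X) * a l) • (D i l' : T.H X)
    rw [smul_smul, mul_comm]
    by_cases h : m' - γ l' = i
    · simp only [D, dif_pos h]
    · have h0 : T.tr Y (b l * c l') * T.tr X ((x : T.H X) * a l) = 0 := by
        by_cases h1 : m - α l + γ l' = top Y
        · rw [T.tr_vanish X _ _ (mul_mem T x.2 (ha l)) (by simp only [top] at h1 hmm ⊢; omega), mul_zero]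
        · rw [T.tr_vanish Y _ _ (mul_mem T (hb l) (hc l')) h1, zero_mul]
      rw [h0, zero_smul, zero_smul]
  simp only [hLeq, map_sum, map_smul, LinearMap.trace_smulRight, smul_eq_mul, Finset.mul_sum]
  rw [hφ, hψ]
  simp only [map_sum, map_mul, Finset.sum_mul, Finset.mul_sum]
  rw [Finset.sum_comm]
  conv_rhs => rw [Finset.sum_comm]; arg 2; ext l; rw [Finset.sum_comm]
  refine Finset.sum_congr rfl fun l _ => Finset.sum_congr rfl fun l' _ => ?_
  rw [← AlgHom.comp_apply, ← AlgHom.comp_apply (T.pull σ), ← T.pull_comp, ← T.pull_comp, hσ₁, hσ₂,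
    mul_assoc, ← mul_assoc (T.pull q (b l)), ← map_mul,
    comm_of_mem T (T.pull_mem q _ _ (mul_mem T (hb l) (hc l'))) (T.pull_mem p _ _ (hd l')),
    mul_smul_comm, map_smul, smul_eq_mul, ← mul_assoc, ← map_mul,
    tr_pull_mul_pull T hP (mul_mem T (ha l) (hd l')) (mul_mem T (hb l) (hc l'))]
  by_cases h1 : m - α l + γ l' = top Y
  swap
  · rw [T.tr_vanish Y _ _ (mul_mem T (hb l) (hc l')) h1]; simp
  have hδ : α l + (m' - γ l') = top X := by simp only [top] at h1 hmm ⊢; omega
  rw [Even.neg_one_pow (by rw [h1]; exact (Int.natAbs_even.mpr (even_two_mul _)).mul_right _), one_mul]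
  by_cases hr : 0 ≤ m' - γ l' ∧ m' - γ l' ≤ top X
  swap
  · rw [eq_zero_of_vanish T (show m' - γ l' < 0 ∨ top X < m' - γ l' by omega) (hd l'), mul_zero, map_zero, zero_mul,
      Finset.sum_eq_zero]
    intro i hi
    rw [show D i l' = 0 from dif_neg (by rw [Finset.mem_range] at hi; simp only [top] at hr; omega), map_zero, mul_zero,
      mul_zero]
  obtain ⟨i, hi⟩ : ∃ i : ℕ, m' - γ l' = i := ⟨(m' - γ l').toNat, (Int.toNat_of_nonneg hr.1).symm⟩
  rw [Finset.sum_eq_single_of_mem i (Finset.mem_range.mpr (by simp only [top] at hr; omega)) fun j _ hj => by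
    rw [show D j l' = 0 from dif_neg (by omega), map_zero, mul_zero, mul_zero]]
  change _ = (-1 : K) ^ i * (T.tr Y (b l * c l') * T.tr X ((D i l' : T.H X) * a l))
  rw [show (D i l' : T.H X) = d l' by simp only [D, dif_pos hi], comm_of_mem T (ha l) (hd l'), map_smul, smul_eq_mul,
    hi]
  have he : (-1 : K) ^ ((α l).natAbs * (i : ℤ).natAbs) = (-1) ^ i := by
    rw [neg_one_pow_eq_pow_mod_two, neg_one_pow_eq_pow_mod_two (n := i)]
    congr 1
    rw [Int.natAbs_natCast, Nat.mul_mod]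
    rcases Nat.mod_two_eq_zero_or_one i with h2 | h2
    · simp [h2]
    · have : (α l).natAbs % 2 = 1 := by simp only [top] at hδ; omega
      simp [h2, this]
  rw [he]
  ring

end Groth.L11.Weil
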