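import Groth.Agent.L11.Weil.Geom
import Groth.Prelude.Def_ChowOps

/-!
Cycle classes and push-forward of cycles.
-/

set_option autoImplicit false
universe u v w

open AlgebraicGeometry CategoryTheory

namespace Groth.L11.Weil

attribute [local instance] Curv2.resAlgebra

variable {k : Type u} [Field k] [IsAlgClosed k]

theorem finite_support (X : WeilCoh.Var k) (α : AlgebraicCycle X.obj.left ℤ) :
    (Function.support ⇑α).Finite := by
  haveI : CompactSpace ↥X.obj.left := QuasiCompact.compactSpace_of_compactSpace X.obj.hom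
  choose t ht hfin using fun x : X.obj.left => α.supportLocallyFiniteWithinDomain' x (Set.mem_univ x)
  obtain ⟨s, -, hs⟩ := isCompact_univ.elim_nhds_subcover t fun x _ => ht x
  refine (s.finite_toSet.biUnion fun x _ => hfin x).subset fun y hy => ?_
  obtain ⟨x, hx, hyx⟩ := Set.mem_iUnion₂.mp (hs (Set.mem_univ y))
  exact Set.mem_iUnion₂.mpr ⟨x, hx, hyx, hy⟩

theorem delta_eq_pdim {X : WeilCoh.Var k} {δ : X.obj.left → ℤ} (hδ : Cyc.DeltaCompat X.obj.hom δ (fun _ => 0))
    (x : X.obj.left) : δ x = WeilCoh.pdim X.obj.left x := by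
  obtain ⟨n, hn, hx⟩ := hδ x
  letI := ((WeilCoh.sm (toPt X)).residueFieldMap x).hom.toAlgebra
  haveI : IsScalarTower k ((pt k).obj.left.residueField (WeilCoh.sm (toPt X) x)) (X.obj.left.residueField x) :=
    IsScalarTower.of_algebraMap_eq' (resMap_comp (toPt X) x).symm
  have h2 := trdeg_eq_pdim X x
  rw [← trdeg_add_eq k ((pt k).obj.left.residueField (WeilCoh.sm (toPt X) x)) (A := X.obj.left.residueField x),
    trdeg_eq_pdim, pdim_of_isClosed (pt k) Set.subsingleton_of_subsingleton.isClosed, Nat.cast_zero, zero_add,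
    show Algebra.trdeg ((pt k).obj.left.residueField (WeilCoh.sm (toPt X) x)) (X.obj.left.residueField x) = n from hn]
    at h2
  rw [hx, zero_add]
  exact_mod_cast h2

variable {K : Type v} [Field K] (T : WeilCoh.TheoryOn.{u, v, w} k (WeilCoh.IsVar k) K)

theorem clCyc_eq_sum (X : WeilCoh.Var k) (α : AlgebraicCycle X.obj.left ℤ) (s : Finset X.obj.left)
    (hs : Function.support ⇑α ⊆ s) : T.clCyc X α = ∑ x ∈ s, ((α x : ℤ) : K) • T.cl X x := by
  refine finsum_eq_sum_of_support_subset _ fun x hx => hs fun h => hx ?_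
  change ((α x : ℤ) : K) • T.cl X x = 0
  rw [h, Int.cast_zero, zero_smul]

/-- The push-forward identity for all classes. -/
theorem tr_cl_push {X Y : WeilCoh.Var k} (f : X ⟶ Y) (x : X.obj.left) (b : T.H Y) :
    ((WeilCoh.sm f).residueDegree x : K) * T.tr Y (T.cl Y (WeilCoh.sm f x) * b) =
      T.tr X (T.cl X x * T.pull f b) := by
  have hb : b ∈ ⨆ i, T.gr Y i := by
    rw [(T.decomp Y).submodule_iSup_eq_top]; trivial
  induction hb using Submodule.iSup_induction' with
  | mem i b hb =>
    by_cases hi : i = 2 * (WeilCoh.pdim X.obj.left x : ℤ)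
    · subst hi
      exact (T.cl_push f x b hb).symm
    · have hR : T.tr X (T.cl X x * T.pull f b) = 0 :=
        T.tr_vanish X _ _ (mul_mem T (T.cl_mem X x) (T.pull_mem f i b hb)) (by
          have := codim_add_pdim X x
          omega)
      rw [hR]
      by_cases h0 : (WeilCoh.sm f).residueDegree x = 0
      · rw [h0, Nat.cast_zero, zero_mul]
      · rw [T.tr_vanish Y _ _ (mul_mem T (T.cl_mem Y _) hb) (by
          have := codim_add_pdim Y (WeilCoh.sm f x)
          rw [pdim_eq_of_residueDegree f x h0] at this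
          omega), mul_zero]
  | zero => simp
  | add b b' _ _ h h' => simp only [mul_add, map_add, h, h']

theorem tr_clCyc_map {X Y : WeilCoh.Var k} (f : X ⟶ Y) [QuasiCompact (WeilCoh.sm f)] {δX : X.obj.left → ℤ}
    {δY : Y.obj.left → ℤ} (hX : ∀ x, δX x = WeilCoh.pdim X.obj.left x) (hY : ∀ y, δY y = WeilCoh.pdim Y.obj.left y)
    (α : AlgebraicCycle X.obj.left ℤ) (b : T.H Y) :
    T.tr Y (T.clCyc Y (AlgebraicCycle.map (WeilCoh.sm f) δX δY α) * b) = T.tr X (T.clCyc X α * T.pull f b) := by
  classical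
  set s := (finite_support X α).toFinset
  have hs : Function.support ⇑α ⊆ s := by simp [s]
  let mc : X.obj.left → ℕ := fun x => AlgebraicCycle.mapCoeff (WeilCoh.sm f) δX δY x
  have hmc : ∀ x, mc x = (WeilCoh.sm f).residueDegree x := fun x => by
    change (if δX x = δY (WeilCoh.sm f x) then (WeilCoh.sm f).residueDegree x else 0) = _
    by_cases h0 : (WeilCoh.sm f).residueDegree x = 0
    · rw [h0, ite_self]
    · rw [if_pos (by rw [hX, hY, pdim_eq_of_residueDegree f x h0])]
  have hmap : ∀ y, AlgebraicCycle.map (WeilCoh.sm f) δX δY α y =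
      ∑ x ∈ s, if WeilCoh.sm f x = y then α x * (mc x : ℤ) else 0 := fun y => by
    change ∑ᶠ x ∈ WeilCoh.sm f ⁻¹' {y}, α x * (mc x : ℤ) = _
    rw [finsum_mem_def, finsum_eq_sum_of_support_subset (s := s) _ fun x hx => hs fun h => hx ?_]
    · refine Finset.sum_congr rfl fun x _ => ?_
      rw [Set.indicator_apply]
      simp only [Set.mem_preimage, Set.mem_singleton_iff]
    · rw [Set.indicator_apply, h, zero_mul, ite_self]
  rw [clCyc_eq_sum T Y _ (s.image fun x => WeilCoh.sm f x) fun y hy => ?_, clCyc_eq_sum T X α s hs,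
    Finset.sum_mul, Finset.sum_mul, map_sum, map_sum]
  · simp only [smul_mul_assoc, map_smul, smul_eq_mul, hmap, Int.cast_sum, Finset.sum_mul]
    rw [Finset.sum_comm]
    refine Finset.sum_congr rfl fun x hx => ?_
    rw [Finset.sum_eq_single_of_mem _ (Finset.mem_image_of_mem _ hx) fun y _ hy => by
        rw [if_neg (Ne.symm hy), Int.cast_zero, zero_mul],
      if_pos rfl, Int.cast_mul, Int.cast_natCast, hmc, mul_assoc, tr_cl_push T f x b]
  · simp only [Finset.coe_image, Set.mem_image, Finset.mem_coe]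
    by_contra hno
    refine hy ?_
    rw [hmap]
    exact Finset.sum_eq_zero fun x hx => if_neg fun h => hno ⟨x, hx, h⟩

theorem deg_eq_tr {X : WeilCoh.Var k} [QuasiCompact X.obj.hom] {δ : X.obj.left → ℤ}
    (hδ : Cyc.DeltaCompat X.obj.hom δ (fun _ => 0)) (α : AlgebraicCycle X.obj.left ℤ) :
    (ChowOps.deg X.obj.hom δ α : K) = T.tr X (T.clCyc X α) := by
  haveI : QuasiCompact (WeilCoh.sm (toPt X)) := ‹QuasiCompact X.obj.hom›
  have h0 : ∀ y : (pt k).obj.left, (0 : ℤ) = WeilCoh.pdim (pt k).obj.left y := fun y => by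
    rw [pdim_of_isClosed (pt k) Set.subsingleton_of_subsingleton.isClosed, Nat.cast_zero]
  have h := tr_clCyc_map T (toPt X) (δY := fun _ => 0) (delta_eq_pdim hδ) h0 α 1
  rw [map_one, mul_one, mul_one] at h
  let z : (pt k).obj.left := IsLocalRing.closedPoint k
  rw [← h, WeilCoh.TheoryOn.clCyc, finsum_eq_single _ z fun y hy => absurd (Subsingleton.elim y z) hy,
    (T.point (pt k) dim_pt).1, map_smul, (T.point (pt k) dim_pt).2, smul_eq_mul, mul_one]
  rfl

theorem isHomEquivZero_iff [CharZero K] {X : WeilCoh.Var k} [QuasiCompact X.obj.hom] {δ : X.obj.left → ℤ}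
    (hδ : Cyc.DeltaCompat X.obj.hom δ (fun _ => 0)) (α : AlgebraicCycle X.obj.left ℤ)
    (hα : α ∈ Cyc.Zk X.obj.left δ 0) : T.IsHomEquivZero X α ↔ ChowOps.deg X.obj.hom δ α = 0 := by
  classical
  have hmem : T.clCyc X α ∈ T.gr X (top X) := by
    rw [clCyc_eq_sum T X α (finite_support X α).toFinset (by simp)]
    refine Submodule.sum_mem _ fun x _ => ?_
    by_cases hx : α x = 0
    · rw [hx, Int.cast_zero, zero_smul]; exact zero_mem _
    · refine Submodule.smul_mem _ _ (mem_congr T ?_ (T.cl_mem X x))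
      have h1 : δ x = 0 := by by_contra h; exact hx (hα x h)
      rw [delta_eq_pdim hδ] at h1
      have h2 := codim_add_pdim X x
      simp only [top]
      omega
  rw [← Int.cast_eq_zero (α := K), deg_eq_tr T hδ α]
  refine ⟨fun h => by rw [show T.clCyc X α = 0 from h, map_zero], fun h => ?_⟩
  have := (T.tr_bijective X).1 (a₁ := ⟨_, hmem⟩) (a₂ := 0) (by rw [map_zero]; exact h)
  exact congrArg Subtype.val this

end Groth.L11.Weil
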