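import Groth.Agent.L11.Weil.Geom
import Mathlib.LinearAlgebra.Charpoly.ToMatrix
import Mathlib.LinearAlgebra.Matrix.Charpoly.Coeff
import Mathlib.LinearAlgebra.Dual.Basis

/-!
An endomorphism scaling the trace on complementary degrees.
-/

set_option autoImplicit false
universe u v w

open AlgebraicGeometry CategoryTheory Polynomial

namespace Groth.L11.Weil

/-- Matrix form: `det A • det (1 - t C) = (-1)^d χ_A (c t)` when `C A = c`. -/
theorem det_smul_charpolyRev {R : Type v} [CommRing R] {ι : Type*} [Fintype ι] [DecidableEq ι] (A C' : Matrix ι ι R)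
    (c : R) (h : C' * A = c • 1) :
    A.det • C'.charpolyRev = (-1 : R[X]) ^ Fintype.card ι * A.charpoly.comp (C c * X) := by
  have hcomp : A.charpoly.comp (C c * X) = (Matrix.diagonal (fun _ : ι => C c * X) - A.map C).det := by
    rw [Matrix.charpoly, ← coe_compRingHom_apply, RingHom.map_det]
    congr 1
    ext i j
    by_cases hij : i = j
    · subst hij
      simp only [RingHom.mapMatrix_apply, Matrix.map_apply, Matrix.charmatrix_apply_eq, coe_compRingHom_apply,
        Matrix.sub_apply, Matrix.diagonal_apply_eq, sub_comp, X_comp, C_comp]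
    · simp only [RingHom.mapMatrix_apply, Matrix.map_apply, Matrix.charmatrix_apply_ne _ _ _ hij,
        coe_compRingHom_apply, Matrix.sub_apply, Matrix.diagonal_apply_ne _ hij, neg_comp, C_comp, zero_sub]
  rw [hcomp, ← Matrix.det_neg, neg_sub, smul_eq_C_mul, RingHom.map_det, mul_comm, Matrix.charpolyRev,
    RingHom.mapMatrix_apply, ← Matrix.det_mul]
  congr 1
  rw [sub_mul, one_mul, smul_mul_assoc, ← Matrix.map_mul, h]
  ext i j
  simp only [Matrix.sub_apply, Matrix.map_apply, Matrix.smul_apply, Matrix.diagonal_apply, Matrix.one_apply,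
    smul_eq_mul]
  split_ifs
  · simp only [mul_one]; ring
  · simp only [mul_zero, map_zero, sub_zero]

variable {k : Type u} [Field k] {K : Type v} [Field K]
  (T : WeilCoh.TheoryOn.{u, v, w} k (WeilCoh.IsVar k) K) {X : WeilCoh.Var k} (F : X ⟶ X) {c : K}
  (hc : ∀ a ∈ T.gr X (top X), T.tr X (T.pull F a) = c * T.tr X a) {i j : ℤ} (hij : i + j = top X)

include hc hij in
/-- In suitable bases, the transpose of the matrix on `H^j` times the matrix on `H^i` is `c`. -/
theorem exists_bases : ∃ (bi : Module.Basis (Fin (Module.finrank K ↥(T.gr X j))) K ↥(T.gr X i))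
    (bj : Module.Basis (Fin (Module.finrank K ↥(T.gr X j))) K ↥(T.gr X j)),
    Matrix.transpose (LinearMap.toMatrix bj bj (T.pullDeg F j)) * LinearMap.toMatrix bi bi (T.pullDeg F i) = c • 1 := by
  haveI := T.duality X i j hij
  let bj := Module.finBasis K ↥(T.gr X j)
  let P0 := (WeilCoh.pairing K (T.gr X i) (T.gr X j) (T.tr X)).toPerfPair
  let bi := bj.dualBasis.map P0.symm
  refine ⟨bi, bj, ?_⟩
  have hB : Matrix.transpose (LinearMap.toMatrix bj bj (T.pullDeg F j)) =
      LinearMap.toMatrix bj.dualBasis bj.dualBasis (T.pullDeg F j).dualMap := by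
    rw [← LinearMap.toMatrix_transpose]
    rfl
  have hA : LinearMap.toMatrix bi bi (T.pullDeg F i) =
      LinearMap.toMatrix bj.dualBasis bj.dualBasis (P0.toLinearMap ∘ₗ T.pullDeg F i ∘ₗ P0.symm.toLinearMap) := by
    ext a b
    simp [bi, LinearMap.toMatrix_apply]
  rw [hB, hA, ← LinearMap.toMatrix_comp]
  have hkey : (T.pullDeg F j).dualMap ∘ₗ (P0.toLinearMap ∘ₗ T.pullDeg F i ∘ₗ P0.symm.toLinearMap) =
      c • LinearMap.id := by
    refine LinearMap.ext fun w => LinearMap.ext fun b => ?_
    obtain ⟨a, rfl⟩ := P0.surjective w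
    simp only [LinearMap.comp_apply, LinearEquiv.coe_coe, LinearEquiv.symm_apply_apply, LinearMap.dualMap_apply,
      LinearMap.smul_apply, LinearMap.id_apply, smul_eq_mul]
    change T.tr X (T.pull F (a : T.H X) * T.pull F (b : T.H X)) = c * T.tr X ((a : T.H X) * b)
    rw [← map_mul, hc _ (mem_congr T hij (mul_mem T a.2 b.2))]
  rw [hkey, map_smul, LinearMap.toMatrix_id]

include hc hij in
theorem det_mul_det :
    LinearMap.det (T.pullDeg F j) * LinearMap.det (T.pullDeg F i) = c ^ Module.finrank K ↥(T.gr X i) := by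
  obtain ⟨bi, bj, h⟩ := exists_bases T F hc hij
  have := congrArg Matrix.det h
  rwa [Matrix.det_mul, Matrix.det_transpose, LinearMap.det_toMatrix, LinearMap.det_toMatrix, Matrix.det_smul,
    Matrix.det_one, mul_one, Fintype.card_fin, ← finrank_eq T hij] at this

include hc hij in
theorem det_smul_reverse :
    LinearMap.det (T.pullDeg F i) • (LinearMap.charpoly (T.pullDeg F j)).reverse =
      (-1 : K[X]) ^ Module.finrank K ↥(T.gr X i) * (LinearMap.charpoly (T.pullDeg F i)).comp (C c * Polynomial.X) := by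
  obtain ⟨bi, bj, h⟩ := exists_bases T F hc hij
  have := det_smul_charpolyRev _ _ c h
  rw [finrank_eq T hij]
  rwa [LinearMap.det_toMatrix, LinearMap.charpoly_toMatrix, Fintype.card_fin,
    ← Matrix.reverse_charpoly, Matrix.charpoly_transpose, LinearMap.charpoly_toMatrix] at this

end Groth.L11.Weil
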