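import Mathlib.FieldTheory.Relrank
import Mathlib.RingTheory.AlgebraicIndependent.TranscendenceBasis
import Mathlib.RingTheory.AlgebraicIndependent.AlgebraicClosure
import Mathlib.FieldTheory.IntermediateField.Adjoin.Basic
import Mathlib.RingTheory.MvPolynomial.Expand
import Mathlib.RingTheory.Ideal.Quotient.Operations
import Mathlib.RingTheory.KrullDimension.Basic
import Mathlib.Algebra.Group.Submonoid.Finsupp
import Groth.Agent.L22.AffineDim

/-!
Degree of a relative Frobenius on a function field: if `σ : L → L` raises a generating set to the `q`-th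
power and fixes `k`, then `[L : σ L] = q ^ trdeg`.
-/

set_option autoImplicit false
universe u v

open MvPolynomial in
/-- independence of small monomials over `q`-th powers, at the level of polynomials -/
theorem Groth.L11.FrobDeg.coeff_eq_zero {k : Type u} [CommRing k] {n q : ℕ} (hq : 0 < q)
    (r : (Fin n → Fin q) → MvPolynomial (Fin n) k)
    (h : ∑ a, expand q (r a) * monomial (Finsupp.equivFunOnFinite.symm fun i => (a i : ℕ)) 1 = 0)
    (a : Fin n → Fin q) : r a = 0 := by
  classical
  ext m
  have hc := congrArg (coeff (q • m + Finsupp.equivFunOnFinite.symm fun i => (a i : ℕ))) h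
  rw [coeff_sum, coeff_zero, Finset.sum_eq_single a (fun b _ hb => ?_) (by simp)] at hc
  · rwa [coeff_mul_monomial, mul_one, coeff_expand_smul _ hq.ne'] at hc
  · rw [coeff_mul_monomial']
    split_ifs with hle
    · rw [mul_one]
      obtain ⟨i, hi⟩ : ∃ i, a i ≠ b i := by
        by_contra! hh
        exact hb (funext fun i => (hh i).symm)
      refine coeff_expand_of_not_dvd _ (i := i) fun hd => hi (Fin.ext ?_)
      have hbi : (b i : ℕ) ≤ q * m i + a i := by simpa using hle i
      have he : (q • m + (Finsupp.equivFunOnFinite.symm fun i => (a i : ℕ)) -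
          Finsupp.equivFunOnFinite.symm fun i => (b i : ℕ)) i = q * m i + a i - b i := by simp
      rw [he] at hd
      obtain ⟨c, hc⟩ := hd
      have h1 : q * m i + (a i : ℕ) = q * c + b i := by omega
      have h2 := congrArg (· % q) h1
      simpa [Nat.mul_add_mod, Nat.mod_eq_of_lt (a i).2, Nat.mod_eq_of_lt (b i).2] using h2
    · rfl

namespace Groth.L11.FrobDeg

open IntermediateField

variable {k : Type u} [Field k] {L : Type v} [Field L] [Algebra k L]

/-- `[k(t) : k(t^q)] = q^n`. -/
theorem relfinrank_pow {n q : ℕ} (hq : 0 < q) (t : Fin n → L) (ht : AlgebraicIndependent k t) :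
    relfinrank (adjoin k (Set.range fun i => t i ^ q)) (adjoin k (Set.range t)) = q ^ n := by
  classical
  set N := adjoin k (Set.range fun i => t i ^ q) with hN
  have hle : N ≤ adjoin k (Set.range t) := adjoin_le_iff.mpr (by
    rintro _ ⟨i, rfl⟩
    exact pow_mem (subset_adjoin k _ (Set.mem_range_self i)) q)
  rw [relfinrank_eq_finrank_of_le hle]
  set v : (Fin n → Fin q) → L := fun a => ∏ i, t i ^ (a i : ℕ) with hv
  have hsN : ∀ i, t i ^ q ∈ N := fun i => subset_adjoin k _ ⟨i, rfl⟩
  -- the span of the small monomials is the field `k(t)`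
  have hint : ∀ i, IsIntegral N (t i) := fun i =>
    IsIntegral.of_pow hq (isIntegral_algebraMap (R := N) (A := L) (x := (⟨t i ^ q, hsN i⟩ : N)))
  have hmon : ∀ e : Fin n → ℕ, (∏ i, t i ^ e i) ∈ Submodule.span N (Set.range v) := fun e => by
    have : (∏ i, t i ^ e i) = (∏ i, (t i ^ q) ^ (e i / q)) * v fun i => ⟨e i % q, Nat.mod_lt _ hq⟩ := by
      rw [hv, ← Finset.prod_mul_distrib]
      refine Finset.prod_congr rfl fun i _ => ?_
      rw [← pow_mul, ← pow_add, Nat.div_add_mod]
    rw [this]
    have hc : (∏ i, (t i ^ q) ^ (e i / q)) ∈ N := prod_mem fun i _ => pow_mem (hsN i) _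
    exact Submodule.smul_mem _ (⟨_, hc⟩ : N) (Submodule.subset_span ⟨_, rfl⟩)
  have hsub : (Submodule.span N (Set.range v)) = (Algebra.adjoin N (Set.range t)).toSubmodule := by
    refine le_antisymm (Submodule.span_le.mpr ?_) ?_
    · rintro _ ⟨a, rfl⟩
      change (∏ i, t i ^ (a i : ℕ)) ∈ Algebra.adjoin N (Set.range t)
      exact prod_mem fun i _ => pow_mem (Algebra.subset_adjoin (Set.mem_range_self i)) _
    · rw [Algebra.adjoin_eq_span, Submodule.span_le]
      intro x hx
      obtain ⟨e, rfl⟩ := Submonoid.exists_of_mem_closure_range t x hx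
      exact hmon e
  haveI : Algebra.IsAlgebraic N (adjoin N (Set.range t)) :=
    isAlgebraic_adjoin (by rintro _ ⟨i, rfl⟩; exact hint i)
  have hext : extendScalars hle = adjoin N (Set.range t) := by
    refine restrictScalars_injective k ?_
    rw [extendScalars_restrictScalars, restrictScalars_adjoin]
    refine le_antisymm (adjoin.mono k _ _ Set.subset_union_right) (adjoin_le_iff.mpr ?_)
    rintro x (hx | hx)
    · exact hle hx
    · exact subset_adjoin k _ hx
  have halg : (adjoin N (Set.range t)).toSubalgebra = Algebra.adjoin N (Set.range t) :=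
    adjoin_toSubalgebra_of_isAlgebraic fun x hx => by
      obtain ⟨i, rfl⟩ := hx
      exact (hint i).isAlgebraic
  -- linear independence
  have hind : LinearIndependent N v := by
    rw [Fintype.linearIndependent_iff]
    intro g hg a
    have hmem : ∀ a, ∃ r d : MvPolynomial (Fin n) k,
        MvPolynomial.aeval (fun i => t i ^ q) d ≠ 0 ∧
        (g a : L) * MvPolynomial.aeval (fun i => t i ^ q) d = MvPolynomial.aeval (fun i => t i ^ q) r := fun a => by
      obtain ⟨r, d, hrd⟩ := (mem_adjoin_range_iff k _ _).mp (g a).2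
      by_cases hd : MvPolynomial.aeval (fun i => t i ^ q) d = 0
      · exact ⟨0, 1, by simp, by simp [hrd, hd]⟩
      · exact ⟨r, d, hd, by rw [hrd, div_mul_cancel₀ _ hd]⟩
    choose r d hd0 hrd using hmem
    let R : (Fin n → Fin q) → MvPolynomial (Fin n) k := fun a => r a * ∏ b ∈ Finset.univ.erase a, d b
    have hexp : ∀ p : MvPolynomial (Fin n) k,
        MvPolynomial.aeval t (MvPolynomial.expand q p) = MvPolynomial.aeval (fun i => t i ^ q) p := fun p => by
      induction p using MvPolynomial.induction_on with
      | C c => simp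
      | add p p' hp hp' => simp [hp, hp']
      | mul_X p i hp => simp [hp]
    have hsum : ∑ a, MvPolynomial.expand q (R a) *
        MvPolynomial.monomial (Finsupp.equivFunOnFinite.symm fun i => (a i : ℕ)) 1 = 0 := by
      apply ht
      rw [map_sum, map_zero]
      have : ∀ a, MvPolynomial.aeval t (MvPolynomial.expand q (R a) *
          MvPolynomial.monomial (Finsupp.equivFunOnFinite.symm fun i => (a i : ℕ)) 1) =
          (∏ b, MvPolynomial.aeval (fun i => t i ^ q) (d b)) * ((g a : L) * v a) := fun a => by
        rw [map_mul, hexp, MvPolynomial.aeval_monomial, map_one, one_mul,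
          ← Finset.mul_prod_erase _ _ (Finset.mem_univ a), Finsupp.prod_fintype _ _ (fun i => pow_zero _)]
        simp only [R, map_mul, map_prod, ← hrd, hv, Finsupp.coe_equivFunOnFinite_symm]
        ring
      rw [Finset.sum_congr rfl fun a _ => this a, ← Finset.mul_sum]
      exact mul_eq_zero_of_right _ hg
    have hR := coeff_eq_zero hq R hsum a
    rcases mul_eq_zero.mp hR with h | h
    · have := hrd a
      rw [h, map_zero] at this
      exact Subtype.ext ((mul_eq_zero.mp this).resolve_right (hd0 a))
    · obtain ⟨b, -, hb⟩ := Finset.prod_eq_zero_iff.mp h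
      exact absurd (by rw [hb, map_zero]) (hd0 b)
  rw [hext]
  change Module.finrank N (adjoin N (Set.range t)).toSubalgebra.toSubmodule = _
  rw [halg, ← hsub, finrank_span_eq_card hind]
  simp

/-- Degree of the relative Frobenius. -/
theorem finrank_fieldRange {S : Set L} (hS : adjoin k S = ⊤) (hfg : (⊤ : IntermediateField k L).FG) {q : ℕ} (hq : 0 < q)
    (σ : L →ₐ[k] L) (hσ : ∀ s ∈ S, σ s = s ^ q) {n : ℕ} (hn : Algebra.trdeg k L = n) :
    Module.finrank σ.fieldRange L = q ^ n := by
  classical
  haveI : Algebra.IsAlgebraic (Algebra.adjoin k S) L := by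
    refine (IntermediateField.isAlgebraic_adjoin_iff_top (F := k) (E := L) (S := L) (s := S)).mp ?_
    rw [hS]
    exact ⟨fun x => isAlgebraic_algebraMap (R := (⊤ : IntermediateField k L)) ⟨x, mem_top⟩⟩
  obtain ⟨u, huS, hu⟩ := exists_isTranscendenceBasis_subset (R := k) S
  have hcard : Cardinal.mk u = n := by rw [hu.cardinalMk_eq_trdeg, hn]
  obtain ⟨e⟩ : Nonempty (Fin n ≃ u) := by
    exact Cardinal.lift_mk_eq'.mp (by simp [hcard])
  set t : Fin n → L := fun i => (e i : L) with ht
  have htb : IsTranscendenceBasis k t := hu.comp_equiv e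
  set M := adjoin k (Set.range t) with hM
  haveI : Algebra.IsAlgebraic M L := htb.isAlgebraic_field
  obtain ⟨G, hG⟩ := hfg
  haveI : FiniteDimensional M (adjoin M (G : Set L)) := finiteDimensional_adjoin fun x _ => Algebra.IsIntegral.isIntegral x
  have htop : adjoin M (G : Set L) = ⊤ := by
    refine restrictScalars_injective k ?_
    rw [restrictScalars_adjoin, restrictScalars_top, eq_top_iff, ← hG]
    exact adjoin.mono k _ _ Set.subset_union_right
  haveI : FiniteDimensional M L := by
    have h : FiniteDimensional M (⊤ : IntermediateField M L) := htop ▸ inferInstance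
    exact Module.Finite.equiv (topEquiv (F := M) (E := L)).toLinearEquiv
  have hd : 0 < Module.finrank M L := Module.finrank_pos
  have hmap : M.map σ = adjoin k (Set.range fun i => t i ^ q) := by
    rw [hM, adjoin_map, ← Set.range_comp]
    congr 2
    ext i
    exact hσ _ (huS (e i).2)
  have hleM : M.map σ ≤ M := by
    rw [hmap]
    exact adjoin_le_iff.mpr (by rintro _ ⟨i, rfl⟩; exact pow_mem (subset_adjoin k _ (Set.mem_range_self i)) q)
  have h1 : relfinrank (M.map σ) M * Module.finrank M L = Module.finrank (M.map σ) L :=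
    relfinrank_mul_finrank_top hleM
  have h2 : relfinrank (M.map σ) σ.fieldRange * Module.finrank σ.fieldRange L = Module.finrank (M.map σ) L :=
    relfinrank_mul_finrank_top (by rw [σ.fieldRange_eq_map]; exact map_mono σ le_top)
  rw [show σ.fieldRange = (⊤ : IntermediateField k L).map σ from σ.fieldRange_eq_map, relfinrank_map_map,
    relfinrank_top_right] at h2
  rw [hmap, relfinrank_pow hq t htb.1] at h1
  rw [← hmap] at h1
  rw [← AlgHom.fieldRange_eq_map] at h2
  have := h2.trans h1.symm
  rw [mul_comm (q ^ n)] at this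
  exact Nat.eq_of_mul_eq_mul_left hd this

/-- An endomorphism of an affine domain raising generators to a positive power is injective. -/
theorem injective_of_pow {k B : Type u} [Field k] [CommRing B] [IsDomain B] [Algebra k B] [Algebra.FiniteType k B]
    {S : Set B} (hS : Algebra.adjoin k S = ⊤) {q : ℕ} (hq : 0 < q) (φ : B →ₐ[k] B)
    (hφ : ∀ s ∈ S, φ s = s ^ q) : Function.Injective φ := by
  let C := φ.range
  haveI hint : Algebra.IsIntegral C B := ⟨fun x => by
    have hx : x ∈ Algebra.adjoin k S := hS ▸ Algebra.mem_top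
    induction hx using Algebra.adjoin_induction with
    | mem s hs =>
      refine IsIntegral.of_pow hq ?_
      exact isIntegral_algebraMap (R := C) (A := B) (x := (⟨s ^ q, s, hφ s hs⟩ : C))
    | algebraMap c => exact isIntegral_algebraMap (R := C) (A := B) (x := algebraMap k C c)
    | add a b _ _ ha hb => exact ha.add hb
    | mul a b _ _ ha hb => exact ha.mul hb⟩
  have h1 : ringKrullDim B = ringKrullDim C :=
    Groth.L22.AffineDim.ringKrullDim_eq_of_isIntegral Subtype.val_injective
  let P : Ideal B := RingHom.ker φ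
  haveI : P.IsPrime := RingHom.ker_isPrime _
  have h2 : ringKrullDim (B ⧸ P) = ringKrullDim C :=
    ringKrullDim_eq_of_ringEquiv (Ideal.quotientKerEquivRange φ).toRingEquiv
  obtain ⟨h, e, d, hh, he, hd, hhe⟩ := Groth.L22.AffineDim.dim_formula (k := k) B P
  rw [h2, ← h1, hd] at he
  have hde : d = e := by exact_mod_cast he
  have h0 : P.height = 0 := by rw [hh, show h = 0 by omega]; rfl
  rw [Ideal.height_eq_zero_iff_eq_bot] at h0
  exact (RingHom.injective_iff_ker_eq_bot _).mpr h0

end Groth.L11.FrobDeg
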