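import Groth.Agent.L11.Weil.Geom
import Groth.Agent.L11.Weil.FrobDeg
import Mathlib.AlgebraicGeometry.Morphisms.Flat

/-!
The relative Frobenius of a variety defined over a finite field has degree `q ^ dim`.
-/

set_option autoImplicit false
universe u v w

open AlgebraicGeometry CategoryTheory

namespace Groth.L11.Weil

variable {k : Type u} [Field k]

attribute [local instance] Curv2.resAlgebra

theorem evaluation_congr {X : Scheme.{u}} {U : X.Opens} {x y : X} (h : x = y) (hx : x ∈ U) (hy : y ∈ U)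
    (s : Γ(X, U)) : (X.residueFieldCongr h).hom (X.evaluation U x hx s) = X.evaluation U y hy s := by
  subst h; rfl

theorem resMap_congr {X : Scheme.{u}} [X.Over (Spec (CommRingCat.of k))] {x y : X} (h : x = y) (c : k) :
    (X.residueFieldCongr h).hom (Curv2.resMap k X x c) = Curv2.resMap k X y c := by
  subst h; rfl

theorem residueFieldCongr_cancel {X : Scheme.{u}} {x y : X} (h : x = y) (z : X.residueField x) :
    (X.residueFieldCongr h.symm).hom ((X.residueFieldCongr h).hom z) = z := by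
  subst h; rfl

theorem evaluation_eq_zero {X : Scheme.{u}} [IsIntegral X] {U : X.Opens} (hη : genericPoint ↥X ∈ U) {r : Γ(X, U)}
    (h : X.evaluation U (genericPoint ↥X) hη r = 0) : r = 0 := by
  rw [X.evaluation_eq_zero_iff_notMem_basicOpen _ hη] at h
  rw [← basicOpen_eq_bot_iff]
  by_contra hne
  obtain ⟨z, hz⟩ : (X.basicOpen r : Set X).Nonempty :=
    Set.nonempty_iff_ne_empty.mpr fun he => hne (SetLike.coe_injective he)
  exact h ((genericPoint_spec X).mem_open_set_iff (X.basicOpen r).2 |>.mpr ⟨z, trivial, hz⟩)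

/-- Sections of a base change generate. -/
theorem adjoin_range_appLE {k₀ : Type u} [Field k₀] [Algebra k₀ k] {X : Scheme.{u}}
    (f : X ⟶ Spec (CommRingCat.of k₀)) (Y : WeilCoh.Var k) (π : Y.obj.left ⟶ X)
    (hπ : IsPullback π Y.obj.hom f (Spec.map (CommRingCat.ofHom (algebraMap k₀ k))))
    {U : X.Opens} (hU : IsAffineOpen U) :
    letI := (Groth.L22.SchemeDim.sectHom k Y.obj.left (π ⁻¹ᵁ U)).toAlgebra
    Algebra.adjoin k (Set.range (π.appLE U (π ⁻¹ᵁ U) le_rfl).hom) = ⊤ := by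
  letI := (Groth.L22.SchemeDim.sectHom k Y.obj.left (π ⁻¹ᵁ U)).toAlgebra
  have hUY : π ⁻¹ᵁ U = π ⁻¹ᵁ U ⊓ Y.obj.hom ⁻¹ᵁ ⊤ := by simp
  haveI := isIso_pushoutSection_of_isAffineOpen hπ (US := ⊤) (UT := ⊤) (UX := U) (by simp) (by simp) hUY
    (isAffineOpen_top _) (isAffineOpen_top _) hU
  have hpo := (isIso_pushoutSection_iff hπ (US := ⊤) (UT := ⊤) (UX := U) _ _ hUY).mp inferInstance
  set C := Algebra.adjoin k (Set.range (π.appLE U (π ⁻¹ᵁ U) le_rfl).hom) with hC
  have hk : ∀ r, (Y.obj.hom.appLE ⊤ (π ⁻¹ᵁ U) (by simp)).hom r ∈ C.toSubring := fun r => by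
    obtain ⟨c, rfl⟩ := (Scheme.ΓSpecIso (CommRingCat.of k)).commRingCatIsoToRingEquiv.symm.surjective r
    exact C.algebraMap_mem c
  let a : Γ(X, U) ⟶ CommRingCat.of C.toSubring :=
    CommRingCat.ofHom ((π.appLE U (π ⁻¹ᵁ U) le_rfl).hom.codRestrict C.toSubring
      fun r => Algebra.subset_adjoin ⟨r, rfl⟩)
  let b : Γ(Spec (CommRingCat.of k), ⊤) ⟶ CommRingCat.of C.toSubring :=
    CommRingCat.ofHom ((Y.obj.hom.appLE ⊤ (π ⁻¹ᵁ U) (by simp)).hom.codRestrict C.toSubring hk)
  let i : CommRingCat.of C.toSubring ⟶ Γ(Y.obj.left, π ⁻¹ᵁ U) := CommRingCat.ofHom C.toSubring.subtype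
  have hai : a ≫ i = π.appLE U (π ⁻¹ᵁ U) le_rfl := by ext; rfl
  have hbi : b ≫ i = Y.obj.hom.appLE ⊤ (π ⁻¹ᵁ U) (by simp) := by ext; rfl
  haveI : Mono i := ConcreteCategory.mono_of_injective i Subtype.val_injective
  let l := hpo.desc a b (by
    rw [← cancel_mono i, Category.assoc, Category.assoc, hai, hbi]
    exact hpo.w)
  have hli : l ≫ i = 𝟙 _ := hpo.hom_ext (by simp [l, hai]) (by simp [l, hbi])
  refine eq_top_iff.mpr fun x _ => ?_
  have := ConcreteCategory.congr_hom hli x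
  rw [← show i (l x) = x from this]
  exact (l x).2

/-- The relative Frobenius fixes the generic point and has residue degree `q ^ dim` there. -/
theorem frobenius_generic {k₀ : Type u} [Field k₀] [Finite k₀] [Algebra k₀ k] {X : Scheme.{u}}
    (f : X ⟶ Spec (CommRingCat.of k₀))
    (FX : X ⟶ X) (hFb : FX.base = 𝟙 _) (hle : ∀ U : X.Opens, U ≤ FX ⁻¹ᵁ U)
    (hFapp : ∀ (U : X.Opens) (s : Γ(X, U)), (FX.appLE U U (hle U)).hom s = s ^ Nat.card k₀)
    (Xb : WeilCoh.Var k) (π : Xb.obj.left ⟶ X)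
    (hπ : IsPullback π Xb.obj.hom f (Spec.map (CommRingCat.ofHom (algebraMap k₀ k))))
    (F : Xb ⟶ Xb) (hF : WeilCoh.sm F ≫ π = π ≫ FX) :
    WeilCoh.sm F (genericPoint ↥Xb.obj.left) = genericPoint ↥Xb.obj.left ∧
      (WeilCoh.sm F).residueDegree (genericPoint ↥Xb.obj.left) = Nat.card k₀ ^ WeilCoh.dim Xb.obj.left := by
  set η := genericPoint ↥Xb.obj.left with hηdef
  set F₀ := WeilCoh.sm F with hF₀
  set q := Nat.card k₀
  have hq : 0 < q := Nat.card_pos
  obtain ⟨_, ⟨U, hU, rfl⟩, hξU, -⟩ := X.isBasis_affineOpens.exists_subset_of_mem_open (Set.mem_univ (π η)) isOpen_univ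
  haveI : IsAffineHom π := MorphismProperty.of_isPullback (P := @IsAffineHom) hπ.flip inferInstance
  set V := π ⁻¹ᵁ U with hVdef
  have hV : IsAffineOpen V := hU.preimage π
  have hηV : η ∈ V := hξU
  have hFV : V ≤ F₀ ⁻¹ᵁ V := by
    intro x hx
    change π (F₀ x) ∈ U
    rw [show π (F₀ x) = (F₀ ≫ π) x from rfl, hF]
    change FX.base (π x) ∈ U
    rw [hFb]
    exact hx
  letI : Algebra k Γ(Xb.obj.left, V) := (Groth.L22.SchemeDim.sectHom k Xb.obj.left V).toAlgebra
  haveI : Algebra.FiniteType k Γ(Xb.obj.left, V) :=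
    RingHom.finiteType_algebraMap.1 (Groth.L22.SchemeDim.finiteType_sectHom k Xb.obj.left hV)
  haveI : Nonempty V := ⟨⟨η, hηV⟩⟩
  let φ : Γ(Xb.obj.left, V) →ₐ[k] Γ(Xb.obj.left, V) :=
    { (F₀.appLE V V hFV).hom with
      commutes' := fun c => by
        have hw : F₀ ≫ Xb.obj.hom = Xb.obj.hom := Over.w F.hom
        change (F₀.appLE V V hFV) (Xb.obj.hom.appLE ⊤ V le_top ((Scheme.ΓSpecIso (CommRingCat.of k)).inv c)) =
          Xb.obj.hom.appLE ⊤ V le_top ((Scheme.ΓSpecIso (CommRingCat.of k)).inv c)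
        rw [← ConcreteCategory.comp_apply (Xb.obj.hom.appLE ⊤ V le_top) (F₀.appLE V V hFV), Scheme.Hom.appLE_comp_appLE]
        simp only [hw] }
  let pi : Γ(X, U) →+* Γ(Xb.obj.left, V) := (π.appLE U V le_rfl).hom
  have hφ : ∀ s ∈ Set.range pi, φ s = s ^ q := by
    rintro _ ⟨a, rfl⟩
    have h : π.appLE U V le_rfl ≫ F₀.appLE V V hFV = FX.appLE U U (hle U) ≫ π.appLE U V le_rfl := by
      rw [Scheme.Hom.appLE_comp_appLE, Scheme.Hom.appLE_comp_appLE]
      simp only [hF]
    change (F₀.appLE V V hFV) ((π.appLE U V le_rfl) a) = _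
    rw [← ConcreteCategory.comp_apply, h, ConcreteCategory.comp_apply, show (FX.appLE U U (hle U)) a = a ^ q from hFapp U a, map_pow]
  have hgen : Algebra.adjoin k (Set.range pi) = ⊤ := adjoin_range_appLE f Xb π hπ hU
  have hinj : Function.Injective φ := FrobDeg.injective_of_pow hgen hq φ hφ
  have hev : ∀ s, Xb.obj.left.evaluation V η hηV (φ s) =
      F₀.residueFieldMap η (Xb.obj.left.evaluation V (F₀ η) (hFV hηV) s) := fun s => by
    rw [Scheme.evaluation_naturality_apply]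
    change Xb.obj.left.evaluation V η hηV ((F₀.app V ≫ Xb.obj.left.presheaf.map (homOfLE hFV).op) s) = _
    simp [Scheme.evaluation]
  have hfix : F₀ η = η := by
    refine (Specializes.antisymm ?_ (genericPoint_specializes _)).eq
    rw [specializes_iff_forall_open]
    intro W hW hηW
    obtain ⟨s, hsW, hs⟩ := hV.exists_basicOpen_le (V := ⟨W, hW⟩) ⟨η, hηW⟩ hηV
    refine hsW ?_
    by_contra hn
    rw [← Xb.obj.left.evaluation_eq_zero_iff_notMem_basicOpen (F₀ η) (@hFV η hηV)] at hn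
    have hφs := hev s
    rw [hn, map_zero] at hφs
    have h0 : φ s = φ 0 := (evaluation_eq_zero hηV hφs).trans (map_zero φ).symm
    rw [hinj h0, Scheme.basicOpen_zero] at hs
    exact hs
  refine ⟨hfix, ?_⟩
  set L := Xb.obj.left.residueField η
  let σ₀ : L →+* L :=
    (F₀.residueFieldMap η).hom.comp (Xb.obj.left.residueFieldCongr hfix.symm).hom.hom
  let σ : L →ₐ[k] L :=
    { σ₀ with
      commutes' := fun c => by
        change (F₀.residueFieldMap η) ((Xb.obj.left.residueFieldCongr hfix.symm).hom (Curv2.resMap k _ η c)) = _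
        rw [resMap_congr]
        exact RingHom.congr_fun (resMap_comp F η) c }
  let ev : Γ(Xb.obj.left, V) →ₐ[k] L :=
    { (Xb.obj.left.evaluation V η hηV).hom with
      commutes' := fun c => (RingHom.congr_fun (Groth.L22.SchemeDim.resMap_eq k Xb.obj.left hηV) c).symm }
  have hσev : ∀ s, σ (ev s) = ev (φ s) := fun s => by
    change (F₀.residueFieldMap η) ((Xb.obj.left.residueFieldCongr hfix.symm).hom (Xb.obj.left.evaluation V η hηV s)) = _
    rw [evaluation_congr hfix.symm hηV (hFV hηV)]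
    exact (hev s).symm
  have hfield : ∀ T : Set Γ(Xb.obj.left, V), Algebra.adjoin k T = ⊤ → IntermediateField.adjoin k (ev '' T) = ⊤ := by
    intro T hT
    refine eq_top_iff.mpr fun z _ => ?_
    have hmem : ∀ r, ev r ∈ IntermediateField.adjoin k (ev '' T) := fun r => by
      refine IntermediateField.algebra_adjoin_le_adjoin k _ ?_
      rw [← AlgHom.map_adjoin, hT]
      exact ⟨r, trivial, rfl⟩
    obtain ⟨w, rfl⟩ := Xb.obj.left.residue_surjective η z
    letI : Algebra Γ(Xb.obj.left, V) (Xb.obj.left.presheaf.stalk η) :=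
      TopCat.Presheaf.algebra_section_stalk Xb.obj.left.presheaf ⟨η, hηV⟩
    haveI := hV.isLocalization_stalk ⟨η, hηV⟩
    obtain ⟨r, s, rfl⟩ := IsLocalization.exists_mk'_eq (hV.primeIdealOf ⟨η, hηV⟩).asIdeal.primeCompl w
    have h : Xb.obj.left.residue η (IsLocalization.mk' _ r s) * ev s = ev r := by
      change _ * Xb.obj.left.residue η (algebraMap _ _ (s : Γ(Xb.obj.left, V))) =
        Xb.obj.left.residue η (algebraMap _ _ r)
      rw [← map_mul, IsLocalization.mk'_spec]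
    have hs : ev s ≠ 0 := fun h0 => by
      have := (IsLocalization.map_units (Xb.obj.left.presheaf.stalk η) s).map (Xb.obj.left.residue η).hom
      exact this.ne_zero h0
    rw [← eq_div_iff hs] at h
    rw [h]
    exact div_mem (hmem _) (hmem _)
  obtain ⟨G, hG⟩ := (inferInstance : Algebra.FiniteType k Γ(Xb.obj.left, V)).out
  classical
  have hfr := FrobDeg.finrank_fieldRange (hfield _ hgen)
    ⟨G.image ev, by rw [Finset.coe_image]; exact hfield _ hG⟩ hq σ
    (by rintro _ ⟨s, hs, rfl⟩; rw [hσev, hφ s hs, map_pow])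
    (n := WeilCoh.dim Xb.obj.left) (by rw [trdeg_eq_pdim, pdim_genericPoint])
  rw [← hfr]
  letI := (F₀.residueFieldMap η).hom.toAlgebra
  refine Algebra.finrank_eq_of_equiv_equiv
    ((Xb.obj.left.residueFieldCongr hfix).commRingCatIsoToRingEquiv.trans σ.equivFieldRange.toRingEquiv)
    (RingEquiv.refl _) ?_
  refine RingHom.ext fun z => ?_
  change (F₀.residueFieldMap η) ((Xb.obj.left.residueFieldCongr hfix.symm).hom
    ((Xb.obj.left.residueFieldCongr hfix).hom z)) = (F₀.residueFieldMap η) z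
  exact congrArg _ (residueFieldCongr_cancel hfix z)

/-- Frobenius multiplies the trace by `q ^ dim`. -/
theorem tr_pull_frobenius {k₀ : Type u} [Field k₀] [Finite k₀] [Algebra k₀ k] {X : Scheme.{u}}
    (f : X ⟶ Spec (CommRingCat.of k₀))
    (FX : X ⟶ X) (hFb : FX.base = 𝟙 _) (hle : ∀ U : X.Opens, U ≤ FX ⁻¹ᵁ U)
    (hFapp : ∀ (U : X.Opens) (s : Γ(X, U)), (FX.appLE U U (hle U)).hom s = s ^ Nat.card k₀)
    {K : Type v} [Field K] (T : WeilCoh.TheoryOn.{u, v, w} k (WeilCoh.IsVar k) K)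
    (Xb : WeilCoh.Var k) (π : Xb.obj.left ⟶ X)
    (hπ : IsPullback π Xb.obj.hom f (Spec.map (CommRingCat.ofHom (algebraMap k₀ k))))
    (F : Xb ⟶ Xb) (hF : WeilCoh.sm F ≫ π = π ≫ FX) (a : T.H Xb) (ha : a ∈ T.gr Xb (top Xb)) :
    T.tr Xb (T.pull F a) = (Nat.card k₀ : K) ^ WeilCoh.dim Xb.obj.left * T.tr Xb a := by
  obtain ⟨hfix, hdeg⟩ := frobenius_generic f FX hFb hle hFapp Xb π hπ F hF
  have h := T.cl_push F (genericPoint ↥Xb.obj.left) a (by rw [pdim_genericPoint]; exact ha)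
  rwa [hfix, cl_genericPoint, one_mul, one_mul, hdeg, Nat.cast_pow] at h

end Groth.L11.Weil
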