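import Groth.Agent.L11.Weil.Det
import Mathlib.FieldTheory.RatFunc.AsPolynomial
import Mathlib.Algebra.Polynomial.Reverse
import Mathlib.LinearAlgebra.Matrix.ToLinearEquiv

/-!
The functional equation for the characteristic polynomials of an endomorphism scaling the trace.
-/

set_option autoImplicit false
universe u v w

open AlgebraicGeometry CategoryTheory

namespace Groth.L11.Weil

theorem sum_range_two_mul_add_one {M : Type*} [AddCommMonoid M] (f : ℕ → M) (n : ℕ) :
    ∑ i ∈ Finset.range (2 * n + 1), f i =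
      (∑ t ∈ Finset.range (n + 1), f (2 * t)) + ∑ t ∈ Finset.range n, f (2 * t + 1) := by
  induction n with
  | zero => simp
  | succ n ih =>
    rw [show 2 * (n + 1) + 1 = 2 * n + 1 + 1 + 1 by ring, Finset.sum_range_succ, Finset.sum_range_succ, ih,
      Finset.sum_range_succ (fun t => f (2 * t)) (n + 1), Finset.sum_range_succ (fun t => f (2 * t + 1)) n,
      show 2 * (n + 1) = 2 * n + 1 + 1 by ring]
    abel

theorem sum_range_symm (d : ℕ → ℕ) (n : ℕ) (h : ∀ i ≤ 2 * n, d (2 * n - i) = d i) :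
    ∑ i ∈ Finset.range (2 * n + 1), d i = 2 * (∑ i ∈ Finset.range n, d i) + d n := by
  rw [show 2 * n + 1 = n + (n + 1) by ring, Finset.sum_range_add, Finset.sum_range_succ',
    ← Finset.sum_range_reflect (fun x => d (n + (x + 1))), add_zero,
    Finset.sum_congr rfl fun x hx => (by
      rw [Finset.mem_range] at hx
      rw [show n + (n - 1 - x + 1) = 2 * n - x by omega, h x (by omega)] :
      d (n + (n - 1 - x + 1)) = d x)]
  ring

variable {k : Type u} [Field k] {K : Type v} [Field K] [CharZero K]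
  (T : WeilCoh.TheoryOn.{u, v, w} k (WeilCoh.IsVar k) K) {X : WeilCoh.Var k}

/-- The middle cohomology has even dimension in odd dimension. -/
theorem even_finrank_middle (h : Odd (WeilCoh.dim X.obj.left)) :
    Even (Module.finrank K ↥(T.gr X (WeilCoh.dim X.obj.left : ℤ))) := by
  classical
  set n := WeilCoh.dim X.obj.left
  let b := Module.finBasis K ↥(T.gr X (n : ℤ))
  let M : Matrix _ _ K := Matrix.of fun i l => T.tr X ((b i : T.H X) * (b l : T.H X))
  have hskew : M.transpose = -M := by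
    ext i l
    simp only [Matrix.transpose_apply, Matrix.neg_apply, M, Matrix.of_apply]
    rw [comm_of_mem T (b l).2 (b i).2, Int.natAbs_natCast, Odd.neg_one_pow (h.mul h), map_smul]
    simp
  by_contra hodd
  rw [Nat.not_even_iff_odd] at hodd
  have h0 : M.det = 0 := by
    have := congrArg Matrix.det hskew
    rw [Matrix.det_transpose, Matrix.det_neg, Fintype.card_fin, Odd.neg_one_pow hodd, neg_one_mul] at this
    exact CharZero.eq_neg_self_iff.mp this
  obtain ⟨v, hv0, hv⟩ := Matrix.exists_mulVec_eq_zero_iff.mpr h0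
  refine hv0 ?_
  set x : T.gr X (n : ℤ) := ∑ l, v l • b l with hx
  have hx0 : (x : T.H X) = 0 := by
    refine eq_zero_of_tr T (m' := (n : ℤ)) (by simp only [top]; omega) x.2 fun c hc => ?_
    have hbx : ∀ i, T.tr X ((b i : T.H X) * x) = 0 := fun i => by
      have := congrFun hv i
      simp only [hx, AddSubmonoidClass.coe_finsetSum, SetLike.val_smul, Finset.mul_sum, mul_smul_comm, map_sum,
        map_smul, smul_eq_mul]
      simpa [Matrix.mulVec, dotProduct, M, mul_comm] using this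
    rw [show c = ((∑ i, b.repr ⟨c, hc⟩ i • b i : T.gr X (n : ℤ)) : T.H X) by rw [b.sum_repr]]
    simp only [AddSubmonoidClass.coe_finsetSum, SetLike.val_smul, Finset.mul_sum, mul_smul_comm, map_sum, map_smul]
    refine Finset.sum_eq_zero fun i _ => ?_
    rw [comm_of_mem T x.2 (b i).2, map_smul, hbx, smul_zero, smul_zero]
  funext l
  have := congrArg (fun y => b.repr y l) (Subtype.ext hx0 : x = 0)
  simpa [hx, b.repr_sum_self, Finsupp.single_apply] using this

variable (F : X ⟶ X) {c : K} (hc : ∀ a ∈ T.gr X (top X), T.tr X (T.pull F a) = c * T.tr X a) (hc0 : c ≠ 0)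

local notation "R" => RatFunc K

include hc hc0 in
theorem aeval_reverse (i j : ℕ) (hij : i + j = 2 * WeilCoh.dim X.obj.left) :
    Polynomial.aeval ((RatFunc.X : RatFunc K)⁻¹ * RatFunc.C c⁻¹) (LinearMap.charpoly (T.pullDeg F (i : ℤ))).reverse *
        (RatFunc.C c * RatFunc.X) ^ Module.finrank K ↥(T.gr X (i : ℤ)) =
      (-1) ^ Module.finrank K ↥(T.gr X (i : ℤ)) * RatFunc.C (LinearMap.det (T.pullDeg F (i : ℤ))) *
        algebraMap (Polynomial K) (RatFunc K) (LinearMap.charpoly (T.pullDeg F (j : ℤ))).reverse := by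
  have hne : RatFunc.C c * RatFunc.X ≠ (0 : RatFunc K) :=
    mul_ne_zero (by simpa using (map_ne_zero RatFunc.C).mpr hc0) RatFunc.X_ne_zero
  letI := invertibleOfNonzero hne
  have hy : ⅟(RatFunc.C c * RatFunc.X : RatFunc K) = (RatFunc.X : RatFunc K)⁻¹ * RatFunc.C c⁻¹ := by
    rw [invOf_eq_inv, mul_inv_rev, map_inv₀]
  have h1 := Polynomial.eval₂_reverse_mul_pow (algebraMap K (RatFunc K)) (RatFunc.C c * RatFunc.X)
    (LinearMap.charpoly (T.pullDeg F (i : ℤ)))
  rw [hy, LinearMap.charpoly_natDegree] at h1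
  rw [Polynomial.aeval_def, h1]
  have h2 := congrArg (algebraMap (Polynomial K) (RatFunc K))
    (det_smul_reverse T F hc (i := i) (j := j) (by simp only [top]; omega))
  rw [Polynomial.smul_eq_C_mul, map_mul, map_mul, map_pow, map_neg, map_one, RatFunc.algebraMap_C] at h2
  rw [mul_assoc, h2, ← mul_assoc, ← mul_pow, neg_one_mul, neg_neg, one_pow, one_mul, ← Polynomial.aeval_def,
    Polynomial.comp_eq_aeval, ← Polynomial.aeval_algebraMap_apply]
  congr 1
  simp [RatFunc.algebraMap_eq_C]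

omit [CharZero K] in
include hc in
theorem det_mul_det_nat (i j : ℕ) (hij : i + j = 2 * WeilCoh.dim X.obj.left) :
    LinearMap.det (T.pullDeg F (j : ℤ)) * LinearMap.det (T.pullDeg F (i : ℤ)) =
      c ^ Module.finrank K ↥(T.gr X (i : ℤ)) :=
  det_mul_det T F hc (by simp only [top]; omega)

variable {q : K} (hq : q ≠ 0) (hcq : c = q ^ WeilCoh.dim X.obj.left)

include hc hq hcq in
theorem functional_equation :
    ∃ ε : K, (ε = 1 ∨ ε = -1) ∧
      Polynomial.aeval ((RatFunc.X : RatFunc K)⁻¹ * RatFunc.C (q ^ WeilCoh.dim X.obj.left)⁻¹)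
          (∏ i ∈ Finset.range (WeilCoh.dim X.obj.left),
            (LinearMap.charpoly (T.pullDeg F ((2 * i + 1 : ℕ) : ℤ))).reverse) /
        Polynomial.aeval ((RatFunc.X : RatFunc K)⁻¹ * RatFunc.C (q ^ WeilCoh.dim X.obj.left)⁻¹)
          (∏ i ∈ Finset.range (WeilCoh.dim X.obj.left + 1),
            (LinearMap.charpoly (T.pullDeg F ((2 * i : ℕ) : ℤ))).reverse) =
      RatFunc.C ε * RatFunc.C q ^ ((WeilCoh.dim X.obj.left : ℤ) * (∑ i ∈ Finset.range (2 * WeilCoh.dim X.obj.left + 1), (-1 : ℤ) ^ i * (Module.finrank K ↥(T.gr X (i : ℤ)) : ℤ)) / 2) *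
        (RatFunc.X : RatFunc K) ^ (∑ i ∈ Finset.range (2 * WeilCoh.dim X.obj.left + 1), (-1 : ℤ) ^ i * (Module.finrank K ↥(T.gr X (i : ℤ)) : ℤ)) *
        (algebraMap (Polynomial K) (RatFunc K)
          (∏ i ∈ Finset.range (WeilCoh.dim X.obj.left),
            (LinearMap.charpoly (T.pullDeg F ((2 * i + 1 : ℕ) : ℤ))).reverse) /
         algebraMap (Polynomial K) (RatFunc K)
          (∏ i ∈ Finset.range (WeilCoh.dim X.obj.left + 1),
            (LinearMap.charpoly (T.pullDeg F ((2 * i : ℕ) : ℤ))).reverse)) := by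
  have hc0 : c ≠ 0 := hcq ▸ pow_ne_zero _ hq
  rw [← hcq]
  set n := WeilCoh.dim X.obj.left
  let y : RatFunc K := (RatFunc.X : RatFunc K)⁻¹ * RatFunc.C c⁻¹
  let d : ℕ → ℕ := fun i => Module.finrank K ↥(T.gr X (i : ℤ))
  let D : ℕ → K := fun i => LinearMap.det (T.pullDeg F (i : ℤ))
  let P : ℕ → Polynomial K := fun i => (LinearMap.charpoly (T.pullDeg F (i : ℤ))).reverse
  let z : RatFunc K := RatFunc.C c * RatFunc.X
  have hz : z ≠ 0 := mul_ne_zero (by simpa using (map_ne_zero RatFunc.C).mpr hc0) RatFunc.X_ne_zero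
  have hd : ∀ i ≤ 2 * n, d (2 * n - i) = d i := fun i hi =>
    finrank_eq T (by simp only [top]; omega)
  -- a block of indices stable under `i ↦ 2n - i`
  have block : ∀ (m : ℕ) (g : ℕ → ℕ) (hg : ∀ t < m, g t + g (m - 1 - t) = 2 * n),
      Polynomial.aeval y (∏ t ∈ Finset.range m, P (g t)) * z ^ (∑ t ∈ Finset.range m, d (g t)) =
        (-1) ^ (∑ t ∈ Finset.range m, d (g t)) * RatFunc.C (∏ t ∈ Finset.range m, D (g t)) *
          algebraMap (Polynomial K) (RatFunc K) (∏ t ∈ Finset.range m, P (g t)) ∧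
      (∏ t ∈ Finset.range m, D (g t)) ^ 2 = c ^ (∑ t ∈ Finset.range m, d (g t)) := by
    intro m g hg
    constructor
    · rw [map_prod, ← Finset.prod_pow_eq_pow_sum, ← Finset.prod_mul_distrib,
        Finset.prod_congr rfl (fun t ht => aeval_reverse T F hc hc0 (g t) (g (m - 1 - t))
          (hg t (Finset.mem_range.mp ht))), Finset.prod_mul_distrib, Finset.prod_mul_distrib,
        Finset.prod_pow_eq_pow_sum, map_prod, map_prod]
      congr 1
      exact Finset.prod_range_reflect (fun t => algebraMap (Polynomial K) (RatFunc K) (P (g t))) m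
    · rw [sq, ← Finset.prod_pow_eq_pow_sum]
      conv_lhs => arg 1; rw [← Finset.prod_range_reflect (fun t => D (g t)) m]
      rw [← Finset.prod_mul_distrib]
      exact Finset.prod_congr rfl fun t ht => det_mul_det_nat T F hc _ _ (hg t (Finset.mem_range.mp ht))
  obtain ⟨he, hDe⟩ := block (n + 1) (fun t => 2 * t) (fun t ht => by omega)
  obtain ⟨ho, hDo⟩ := block n (fun t => 2 * t + 1) (fun t ht => by omega)
  set de := ∑ t ∈ Finset.range (n + 1), d (2 * t)
  set dd := ∑ t ∈ Finset.range n, d (2 * t + 1)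
  set De := ∏ t ∈ Finset.range (n + 1), D (2 * t)
  set Do := ∏ t ∈ Finset.range n, D (2 * t + 1)
  set Pe := algebraMap (Polynomial K) (RatFunc K) (∏ t ∈ Finset.range (n + 1), P (2 * t))
  set Po := algebraMap (Polynomial K) (RatFunc K) (∏ t ∈ Finset.range n, P (2 * t + 1))
  have hE : (∑ i ∈ Finset.range (2 * n + 1), (-1 : ℤ) ^ i * (d i : ℤ)) = (de : ℤ) - dd := by
    rw [sum_range_two_mul_add_one]
    simp [de, dd, pow_succ, pow_mul, sub_eq_add_neg]
  obtain ⟨m, hm⟩ : Even ((n : ℤ) * ((de : ℤ) - dd)) := by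
    rcases Nat.even_or_odd n with h | h
    · exact ((Int.even_coe_nat n).mpr h).mul_right _
    · have h1 : de + dd = 2 * (∑ i ∈ Finset.range n, d i) + d n :=
        (sum_range_two_mul_add_one d n).symm.trans (sum_range_symm d n hd)
      obtain ⟨a, ha⟩ : Even (d n) := even_finrank_middle T h
      refine Even.mul_left ?_ _
      exact ⟨(de : ℤ) - (∑ i ∈ Finset.range n, d i : ℕ) - a, by omega⟩
  change ∃ ε : K, (ε = 1 ∨ ε = -1) ∧ Polynomial.aeval y (∏ t ∈ Finset.range n, P (2 * t + 1)) /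
      Polynomial.aeval y (∏ t ∈ Finset.range (n + 1), P (2 * t)) =
    RatFunc.C ε * RatFunc.C q ^ ((n : ℤ) * (∑ i ∈ Finset.range (2 * n + 1), (-1 : ℤ) ^ i * (d i : ℤ)) / 2) *
      (RatFunc.X : RatFunc K) ^ (∑ i ∈ Finset.range (2 * n + 1), (-1 : ℤ) ^ i * (d i : ℤ)) * (Po / Pe)
  rw [hE, hm, show (m + m) / 2 = m by omega]
  set E : ℤ := (de : ℤ) - dd with hEdef
  have hDe0 : De ≠ 0 := fun h => pow_ne_zero de hc0 (by rw [← hDe, h]; simp)
  have hDo0 : Do ≠ 0 := fun h => pow_ne_zero dd hc0 (by rw [← hDo, h]; simp)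
  -- the constant
  let w : K := (-1) ^ dd / (-1) ^ de * (Do / De) * c ^ E / q ^ m
  have hw : w ^ 2 = 1 := by
    simp only [w, div_pow, mul_pow, hDe, hDo]
    rw [← pow_mul, ← pow_mul, mul_comm dd, mul_comm de, pow_mul, pow_mul, neg_one_sq, one_pow, one_pow, div_one,
      one_mul, ← zpow_natCast (c ^ E), ← zpow_natCast (q ^ m), ← zpow_mul, ← zpow_mul, ← zpow_natCast c dd,
      ← zpow_natCast c de, ← zpow_sub₀ hc0, ← zpow_add₀ hc0, show (dd : ℤ) - de + E * (2 : ℕ) = E by omega, hcq,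
      ← zpow_natCast q n, ← zpow_mul, hm, show m * ((2 : ℕ) : ℤ) = m + m by omega, div_self (zpow_ne_zero _ hq)]
  refine ⟨w, sq_eq_one_iff.mp hw, ?_⟩
  have h1 : ∀ {a b t : RatFunc K} {N : ℕ}, a * z ^ N = b * t → a = b * t / z ^ N := fun h =>
    (eq_div_iff (pow_ne_zero _ hz)).mpr h
  rw [h1 ho, h1 he]
  simp only [w, z, map_mul, map_div₀, map_pow, map_neg, map_one, map_zpow₀, mul_pow]
  simp only [hEdef, zpow_sub₀ ((map_ne_zero RatFunc.C).mpr hc0 : RatFunc.C c ≠ (0 : RatFunc K)),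
    zpow_sub₀ (RatFunc.X_ne_zero : (RatFunc.X : RatFunc K) ≠ 0), zpow_natCast]
  have hq' : (RatFunc.C q : RatFunc K) ^ m ≠ 0 := zpow_ne_zero _ ((map_ne_zero RatFunc.C).mpr hq)
  field_simp

end Groth.L11.Weil
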