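import Groth.Agent.L11.Weil.Basic
import Groth.Agent.L22.SchemeDim
import Groth.Agent.L22.FibreDim
import Groth.Agent.L21.Smooth.Scheme
import Groth.Agent.L16.ProjSpace.Basic

/-!
Geometry of the objects of a Weil cohomology theory: dimensions of points, the point object, residue degrees.
-/

set_option autoImplicit false
universe u v w

open AlgebraicGeometry CategoryTheory

namespace Groth.L11.Weil

variable {k : Type u} [Field k]

attribute [local instance] Curv2.resAlgebra

instance isProper_hom (X : WeilCoh.Var k) : IsProper X.obj.hom := by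
  obtain ⟨n, i, _, he⟩ := X.property.2.1
  rw [← he]; infer_instance

instance smooth_hom (X : WeilCoh.Var k) : Smooth X.obj.hom := X.property.1

instance irreducible_left (X : WeilCoh.Var k) : IrreducibleSpace ↥X.obj.left := X.property.2.2

instance isIntegral_left (X : WeilCoh.Var k) : IsIntegral X.obj.left := by
  haveI : ∀ x, _root_.IsReduced (X.obj.left.presheaf.stalk x) := fun x =>
    haveI := Groth.L21.Smooth.isDomain_stalk X.obj.hom x
    inferInstance
  haveI := isReduced_of_isReduced_stalk X.obj.left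
  exact isIntegral_of_irreducibleSpace_of_isReduced _

noncomputable instance over_left (X : WeilCoh.Var k) : X.obj.left.Over (Spec (CommRingCat.of k)) := ⟨X.obj.hom⟩

instance lft_over (X : WeilCoh.Var k) : LocallyOfFiniteType (X.obj.left ↘ Spec (CommRingCat.of k)) :=
  inferInstanceAs (LocallyOfFiniteType X.obj.hom)

instance isSeparated_sm {X Y : WeilCoh.Var k} (f : X ⟶ Y) : IsSeparated (WeilCoh.sm f) := by
  haveI : IsSeparated (WeilCoh.sm f ≫ Y.obj.hom) := by rw [Over.w]; infer_instance
  exact IsSeparated.of_comp (WeilCoh.sm f) Y.obj.hom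

theorem sm_comp {X Y Z : WeilCoh.Var k} (f : X ⟶ Y) (g : Y ⟶ Z) :
    WeilCoh.sm (f ≫ g) = WeilCoh.sm f ≫ WeilCoh.sm g := rfl

theorem exists_pdim (X : WeilCoh.Var k) (x : X.obj.left) :
    ∃ n : ℕ, WeilCoh.pdim X.obj.left x = n ∧ Algebra.trdeg k (X.obj.left.residueField x) = n ∧
      topologicalKrullDim (closure ({x} : Set X.obj.left)) = (n : WithBot ℕ∞) := by
  obtain ⟨n, hn, htr⟩ := Groth.L22.SchemeDim.exists_dim_closure_eq_trdeg k X.obj.left x
  refine ⟨n, ?_, htr, hn⟩
  rw [WeilCoh.pdim, WeilCoh.natDim, hn]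
  rfl

theorem pdim_eq_of_trdeg {X : WeilCoh.Var k} {x : X.obj.left} {n : ℕ}
    (h : Algebra.trdeg k (X.obj.left.residueField x) = n) : WeilCoh.pdim X.obj.left x = n := by
  obtain ⟨m, hm, htr, -⟩ := exists_pdim X x
  rw [hm]
  exact_mod_cast htr.symm.trans h

theorem trdeg_eq_pdim (X : WeilCoh.Var k) (x : X.obj.left) :
    Algebra.trdeg k (X.obj.left.residueField x) = (WeilCoh.pdim X.obj.left x : ℕ) := by
  obtain ⟨m, hm, htr, -⟩ := exists_pdim X x
  rw [hm, htr]

theorem pdim_genericPoint (X : WeilCoh.Var k) :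
    WeilCoh.pdim X.obj.left (genericPoint ↥X.obj.left) = WeilCoh.dim X.obj.left := by
  obtain ⟨n, hn, htr, -⟩ := Groth.L22.SchemeDim.exists_dim_eq_trdeg k X.obj.left |>.imp fun n h => (⟨h.1, h.2.1, trivial⟩ : _ ∧ _ ∧ True)
  rw [pdim_eq_of_trdeg htr, WeilCoh.dim, WeilCoh.natDim, hn]
  rfl

theorem pdim_le_dim (X : WeilCoh.Var k) (x : X.obj.left) :
    WeilCoh.pdim X.obj.left x ≤ WeilCoh.dim X.obj.left := by
  obtain ⟨n, hn, htr, -⟩ := Groth.L22.SchemeDim.exists_dim_eq_trdeg k X.obj.left |>.imp fun n h => (⟨h.1, h.2.1, trivial⟩ : _ ∧ _ ∧ True)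
  obtain ⟨m, hm, -, hmd⟩ := exists_pdim X x
  rw [hm, WeilCoh.dim, WeilCoh.natDim, hn]
  have := topologicalKrullDim_subspace_le ↥X.obj.left (closure ({x} : Set X.obj.left))
  rw [hmd, hn] at this
  exact_mod_cast this

theorem codim_add_pdim (X : WeilCoh.Var k) (x : X.obj.left) :
    (WeilCoh.codim X.obj.left x : ℤ) + WeilCoh.pdim X.obj.left x = WeilCoh.dim X.obj.left := by
  have := pdim_le_dim X x
  simp only [WeilCoh.codim]
  omega

theorem pdim_of_isClosed (X : WeilCoh.Var k) {x : X.obj.left} (hx : IsClosed ({x} : Set X.obj.left)) :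
    WeilCoh.pdim X.obj.left x = 0 := by
  obtain ⟨m, hm, -, hmd⟩ := exists_pdim X x
  haveI : Subsingleton ↥(closure ({x} : Set X.obj.left)) := by
    rw [hx.closure_eq]; infer_instance
  haveI : Nonempty ↥(closure ({x} : Set X.obj.left)) := ⟨⟨x, subset_closure rfl⟩⟩
  haveI : DiscreteTopology ↥(closure ({x} : Set X.obj.left)) := inferInstance
  have h0 : topologicalKrullDim ↥(closure ({x} : Set X.obj.left)) ≤ 0 :=
    topologicalKrullDim_zero_of_discreteTopology _
  rw [hm]
  rw [hmd] at h0
  exact_mod_cast le_antisymm h0 (by exact_mod_cast Nat.zero_le m)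

/-- The residue field maps are compatible with the structure maps from `k`. -/
theorem resMap_comp {X Y : WeilCoh.Var k} (f : X ⟶ Y) (x : X.obj.left) :
    ((WeilCoh.sm f).residueFieldMap x).hom.comp (Curv2.resMap k Y.obj.left (WeilCoh.sm f x)) =
      Curv2.resMap k X.obj.left x := by
  have h : CommRingCat.ofHom (Curv2.resMap k Y.obj.left (WeilCoh.sm f x)) ≫ (WeilCoh.sm f).residueFieldMap x =
      CommRingCat.ofHom (Curv2.resMap k X.obj.left x) := by
    apply Spec.map_injective
    rw [Spec.map_comp, Groth.L22.FibreDim.SpecMap_resMap, Groth.L22.FibreDim.SpecMap_resMap,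
      Scheme.Hom.SpecMap_residueFieldMap_fromSpecResidueField_assoc]
    congr 1
    exact Over.w f.hom
  exact congrArg CommRingCat.Hom.hom h

theorem pdim_eq_of_residueDegree {X Y : WeilCoh.Var k} (f : X ⟶ Y) (x : X.obj.left)
    (h : (WeilCoh.sm f).residueDegree x ≠ 0) :
    WeilCoh.pdim Y.obj.left (WeilCoh.sm f x) = WeilCoh.pdim X.obj.left x := by
  letI := ((WeilCoh.sm f).residueFieldMap x).hom.toAlgebra
  haveI : IsScalarTower k (Y.obj.left.residueField (WeilCoh.sm f x)) (X.obj.left.residueField x) :=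
    IsScalarTower.of_algebraMap_eq' (resMap_comp f x).symm
  haveI : Module.Finite (Y.obj.left.residueField (WeilCoh.sm f x)) (X.obj.left.residueField x) :=
    Module.finite_of_finrank_pos (Nat.pos_of_ne_zero h)
  have h2 := trdeg_eq_pdim X x
  rw [← trdeg_add_eq k (Y.obj.left.residueField (WeilCoh.sm f x)) (A := X.obj.left.residueField x),
    trdeg_eq_pdim, trdeg_eq_zero (R := Y.obj.left.residueField (WeilCoh.sm f x)), add_zero] at h2
  exact_mod_cast h2

theorem residueDegree_eq_one {X Y : WeilCoh.Var k} (f : X ⟶ Y) (x : X.obj.left)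
    (h : Function.Bijective ((WeilCoh.sm f).residueFieldMap x).hom) : (WeilCoh.sm f).residueDegree x = 1 := by
  letI := ((WeilCoh.sm f).residueFieldMap x).hom.toAlgebra
  exact ((AlgEquiv.ofBijective (Algebra.ofId _ _) h).toLinearEquiv.finrank_eq).symm.trans (Module.finrank_self _)

/-- A section of a morphism of varieties has residue degree one. -/
theorem residueDegree_section {X Y : WeilCoh.Var k} (j : X ⟶ Y) (p : Y ⟶ X) (h : j ≫ p = 𝟙 X) (x : X.obj.left) :
    (WeilCoh.sm j).residueDegree x = 1 := by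
  haveI : IsClosedImmersion (WeilCoh.sm j ≫ WeilCoh.sm p) := by
    rw [← sm_comp, h]
    exact inferInstanceAs (IsClosedImmersion (𝟙 X.obj.left))
  haveI := IsClosedImmersion.of_comp (WeilCoh.sm j) (WeilCoh.sm p)
  exact residueDegree_eq_one j x (Groth.L22.FibreDim.residueFieldMap_bijective _ x)

theorem pdim_section {X Y : WeilCoh.Var k} (j : X ⟶ Y) (p : Y ⟶ X) (h : j ≫ p = 𝟙 X) (x : X.obj.left) :
    WeilCoh.pdim Y.obj.left (WeilCoh.sm j x) = WeilCoh.pdim X.obj.left x :=
  pdim_eq_of_residueDegree j x (by rw [residueDegree_section j p h x]; exact _root_.one_ne_zero)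

variable (k) in
/-- The point. -/
noncomputable def pt : WeilCoh.Var k :=
  ⟨Over.mk (𝟙 (Spec (CommRingCat.of k))), inferInstanceAs (Smooth (𝟙 _)),
    ⟨0, haveI := Groth.L16.ProjSpace.isIso_toSpec_zero (ULift.{u} ℤ)
      haveI : IsIso (CohB1.ProjSpaceOver.toBase 0 (Spec (CommRingCat.of k))) :=
        inferInstanceAs (IsIso (Limits.pullback.snd (CohB1.ProjSpace.toSpec 0 (ULift.{u} ℤ))
          (specULiftZIsTerminal.from (Spec (CommRingCat.of k)))))
      ⟨inv (CohB1.ProjSpaceOver.toBase 0 (Spec (CommRingCat.of k))), inferInstance, IsIso.inv_hom_id _⟩⟩,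
    inferInstanceAs (IrreducibleSpace ↥(Spec (CommRingCat.of k)))⟩

instance : Subsingleton ↥(pt k).obj.left := inferInstanceAs (Subsingleton (PrimeSpectrum k))

theorem dim_pt : WeilCoh.dim (pt k).obj.left = 0 := by
  rw [← pdim_genericPoint (pt k)]
  exact pdim_of_isClosed _ (Set.subsingleton_of_subsingleton.isClosed)

/-- The structure morphism, as a morphism to the point. -/
noncomputable def toPt (X : WeilCoh.Var k) : X ⟶ pt k :=
  ObjectProperty.homMk (Over.homMk X.obj.hom (Category.comp_id _))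

theorem residueDegree_toPt [IsAlgClosed k] (X : WeilCoh.Var k) {x : X.obj.left}
    (hx : IsClosed ({x} : Set X.obj.left)) : (WeilCoh.sm (toPt X)).residueDegree x = 1 := by
  refine residueDegree_eq_one _ _ ⟨RingHom.injective _, ?_⟩
  have hs : Function.Surjective (algebraMap k (X.obj.left.residueField x)) := by
    have h0 := trdeg_eq_pdim X x
    rw [pdim_of_isClosed X hx, Nat.cast_zero, trdeg_eq_zero_iff] at h0
    exact (IsAlgClosed.algebraMap_bijective_of_isIntegral).2
  intro z
  obtain ⟨c, rfl⟩ := hs z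
  exact ⟨Curv2.resMap k (pt k).obj.left (WeilCoh.sm (toPt X) x) c, RingHom.congr_fun (resMap_comp (toPt X) x) c⟩

variable {K : Type v} [Field K]

/-- The class of the whole variety is `1`. -/
theorem cl_genericPoint (T : WeilCoh.TheoryOn.{u, v, w} k (WeilCoh.IsVar k) K) (X : WeilCoh.Var k) :
    T.cl X (genericPoint ↥X.obj.left) = 1 := by
  let η := genericPoint ↥(pt k).obj.left
  have hset : (WeilCoh.sm (toPt X)) ⁻¹' closure ({η} : Set (pt k).obj.left) = Set.univ := by
    rw [genericPoint_closure]; rfl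
  have hcomp : ∀ w, WeilCoh.IsCompPt ((WeilCoh.sm (toPt X)) ⁻¹' closure ({η} : Set (pt k).obj.left)) w →
      w = genericPoint ↥X.obj.left := fun w hw => by
    rw [hset] at hw
    exact (hw.2 _ trivial (genericPoint_specializes w)).symm
  have hgen : WeilCoh.IsCompPt ((WeilCoh.sm (toPt X)) ⁻¹' closure ({η} : Set (pt k).obj.left))
      (genericPoint ↥X.obj.left) := by
    rw [hset]
    exact ⟨trivial, fun w' _ h => (h.antisymm (genericPoint_specializes w')).eq⟩
  have h := T.cl_pull (toPt X) η (fun w hw => by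
      rw [hcomp w hw, pdim_genericPoint, pdim_genericPoint, dim_pt]; simp)
    (Or.inl ⟨⊤, Set.subset_univ _, by
      haveI : Flat (WeilCoh.sm (toPt X)) := inferInstanceAs (Flat X.obj.hom)
      exact IsZariskiLocalAtTarget.restrict (P := @Flat) inferInstance ⊤⟩)
  haveI : Subsingleton {w // WeilCoh.IsCompPt ((WeilCoh.sm (toPt X)) ⁻¹' closure ({η} : Set (pt k).obj.left)) w} :=
    ⟨fun a b => Subtype.ext ((hcomp _ a.2).trans (hcomp _ b.2).symm)⟩
  rw [(T.point (pt k) dim_pt).1 η, map_one, finsum_eq_single _ (⟨_, hgen⟩ : {w // _}) (fun b hb => absurd (Subsingleton.elim _ _) hb)] at h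
  have hm : WeilCoh.preimMult (WeilCoh.sm (toPt X)) η (genericPoint ↥X.obj.left) hgen.1 = 1 := by
    rw [WeilCoh.preimMult]
    have hker : RingHom.ker (Cyc.specMap ((WeilCoh.sm (toPt X)) (genericPoint ↥X.obj.left)) η
        (specializes_iff_mem_closure.mpr hgen.1)) = ⊥ := by
      haveI : IsField ((pt k).obj.left.presheaf.stalk ((WeilCoh.sm (toPt X)) (genericPoint ↥X.obj.left))) := by
        rw [show (WeilCoh.sm (toPt X)) (genericPoint ↥X.obj.left) = genericPoint ↥(pt k).obj.left from
          Subsingleton.elim _ _]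
        exact Field.toIsField (pt k).obj.left.functionField
      letI := this.toField
      exact Or.resolve_right (Ideal.eq_bot_or_top _) (RingHom.ker_ne_top _)
    rw [hker, Ideal.map_bot]
    letI : Field (X.obj.left.presheaf.stalk (genericPoint ↥X.obj.left)) := inferInstanceAs (Field X.obj.left.functionField)
    rw [(Submodule.quotEquivOfEqBot (⊥ : Ideal (X.obj.left.presheaf.stalk (genericPoint ↥X.obj.left))) rfl).length_eq,
      Module.length_eq_one_iff.mpr inferInstance]
    rfl
  rw [hm, Nat.cast_one, one_smul] at h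
  exact h.symm

/-- The trace of the class of a closed point is `1`. -/
theorem tr_cl_closedPoint [IsAlgClosed k] (T : WeilCoh.TheoryOn.{u, v, w} k (WeilCoh.IsVar k) K) (X : WeilCoh.Var k)
    {x : X.obj.left} (hx : IsClosed ({x} : Set X.obj.left)) : T.tr X (T.cl X x) = 1 := by
  have h := T.cl_push (toPt X) x 1 (by rw [pdim_of_isClosed X hx]; exact SetLike.one_mem_graded (T.gr (pt k)))
  rwa [map_one, mul_one, mul_one, (T.point (pt k) dim_pt).1, (T.point (pt k) dim_pt).2, mul_one,
    residueDegree_toPt X hx, Nat.cast_one] at h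

end Groth.L11.Weil
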