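import Groth.Agent.L11.Weil.FixedPts
import Groth.Agent.L11.Weil.FunEq
import Groth.Agent.L11.Weil.Newton

/-!
The cohomological expression of the zeta function: the number of rational points in the extension of degree `m`
is the alternating trace of the `m`-th power of Frobenius, hence the zeta function is rational.
-/

set_option autoImplicit false
universe u v w

open AlgebraicGeometry CategoryTheory PowerSeries

namespace Groth.L11.Weil

variable {k₀ : Type u} [Field k₀] [Finite k₀] {k : Type u} [Field k] [IsAlgClosed k] [Algebra k₀ k]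
  {K : Type v} [Field K]

theorem pullDeg_comp (T : WeilCoh.TheoryOn.{u, v, w} k (WeilCoh.IsVar k) K) {X Y Z : WeilCoh.Var k} (f : X ⟶ Y)
    (g : Y ⟶ Z) (i : ℤ) : T.pullDeg (f ≫ g) i = T.pullDeg f i ∘ₗ T.pullDeg g i :=
  LinearMap.ext fun a => Subtype.ext (DFunLike.congr_fun (T.pull_comp f g) (a : T.H Z))

theorem pullDeg_id (T : WeilCoh.TheoryOn.{u, v, w} k (WeilCoh.IsVar k) K) (X : WeilCoh.Var k) (i : ℤ) :
    T.pullDeg (𝟙 X) i = LinearMap.id :=
  LinearMap.ext fun a => Subtype.ext (DFunLike.congr_fun (T.pull_id X) (a : T.H X))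

/-- The iterates of the Frobenius. -/
theorem exists_iterate (T : WeilCoh.TheoryOn.{u, v, w} k (WeilCoh.IsVar k) K) {X : Scheme.{u}}
    (FX : X ⟶ X) (hFb : FX.base = 𝟙 _) (hle : ∀ U : X.Opens, U ≤ FX ⁻¹ᵁ U) {q : ℕ}
    (hFapp : ∀ (U : X.Opens) (s : Γ(X, U)), (FX.appLE U U (hle U)) s = s ^ q)
    {Xb : WeilCoh.Var k} (π : Xb.obj.left ⟶ X) (F : Xb ⟶ Xb) (hF : WeilCoh.sm F ≫ π = π ≫ FX) (m : ℕ) :
    ∃ (G : Xb ⟶ Xb) (FXm : X ⟶ X) (hlem : ∀ U : X.Opens, U ≤ FXm ⁻¹ᵁ U), FXm.base = 𝟙 _ ∧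
      (∀ (U : X.Opens) (s : Γ(X, U)), (FXm.appLE U U (hlem U)) s = s ^ (q ^ m)) ∧
      WeilCoh.sm G ≫ π = π ≫ FXm ∧
      ∀ i, T.pullDeg G i = (T.pullDeg F i) ^ m := by
  induction m with
  | zero =>
    refine ⟨𝟙 Xb, 𝟙 X, fun U => le_rfl, rfl, fun U s => ?_, ?_, fun i => ?_⟩
    · rw [pow_zero, pow_one]
      simp [Scheme.Hom.appLE]
      exact ConcreteCategory.congr_hom (X.presheaf.map_id (Opposite.op U)) s
    · exact (Category.id_comp π).trans (Category.comp_id π).symm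
    · rw [pullDeg_id, pow_zero]; rfl
  | succ m ih =>
    obtain ⟨G, FXm, hlem, hb, happ, hG, hpull⟩ := ih
    have hlem' : ∀ U : X.Opens, U ≤ (FX ≫ FXm) ⁻¹ᵁ U := fun U y hy => hle (FXm ⁻¹ᵁ U) (hlem U hy)
    refine ⟨F ≫ G, FX ≫ FXm, hlem', ?_, fun U s => ?_, ?_, fun i => ?_⟩
    · rw [Scheme.Hom.comp_base, hFb, hb]; rfl
    · rw [← Scheme.Hom.appLE_comp_appLE FX FXm U U U (hlem U) (hle U), ConcreteCategory.comp_apply, happ, map_pow,
        hFapp, ← pow_mul, pow_succ']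
    · rw [sm_comp, Category.assoc, hG, ← Category.assoc, hF, Category.assoc]
    · rw [pullDeg_comp, hpull, pow_succ']; rfl

/-- The trace formula for the powers of Frobenius. -/
theorem nPts_eq_trace {X : Scheme.{u}} (f : X ⟶ Spec (CommRingCat.of k₀)) [LocallyOfFiniteType f] [QuasiCompact f]
    (T : WeilCoh.TheoryOn.{u, v, w} k (WeilCoh.IsVar k) K)
    (FX : X ⟶ X) (hFb : FX.base = 𝟙 _) (hle : ∀ U : X.Opens, U ≤ FX ⁻¹ᵁ U)
    (hFapp : ∀ (U : X.Opens) (s : Γ(X, U)), (FX.appLE U U (hle U)) s = s ^ Nat.card k₀)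
    (Xb : WeilCoh.Var k) (π : Xb.obj.left ⟶ X)
    (hπ : IsPullback π Xb.obj.hom f (Spec.map (CommRingCat.ofHom (algebraMap k₀ k))))
    (F : Xb ⟶ Xb) (hF : WeilCoh.sm F ≫ π = π ≫ FX)
    (Pb : WeilCoh.Var k) (p q : Pb ⟶ Xb) (hP : WeilCoh.IsProd p q) {m : ℕ} (hm : 0 < m) :
    (Zeta.nPts f m : K) = ∑ i ∈ Finset.range (2 * WeilCoh.dim Xb.obj.left + 1),
      (-1 : K) ^ i * LinearMap.trace K ↥(T.gr Xb (i : ℤ)) (T.pullDeg F (i : ℤ) ^ m) := by
  letI : X.Over (Spec (CommRingCat.of k₀)) := ⟨f⟩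
  haveI : LocallyOfFiniteType (X ↘ Spec (CommRingCat.of k₀)) := ‹LocallyOfFiniteType f›
  haveI : CompactSpace X := QuasiCompact.compactSpace_of_compactSpace f
  obtain ⟨G, FXm, hlem, hb, happ, hG, hpull⟩ := exists_iterate T FX hFb hle hFapp π F hF m
  let j : Xb ⟶ Pb := ObjectProperty.homMk (Over.homMk
    (hP.lift (𝟙 Xb.obj.left) (WeilCoh.sm G) (by rw [Category.id_comp, Over.w]))
    (by rw [← Over.w p.hom, ← Category.assoc]; exact congrArg (· ≫ Xb.obj.hom) (hP.lift_fst _ _ _) |>.trans (Category.id_comp _)))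
  let d : Xb ⟶ Pb := ObjectProperty.homMk (Over.homMk
    (hP.lift (𝟙 Xb.obj.left) (𝟙 Xb.obj.left) rfl)
    (by rw [← Over.w p.hom, ← Category.assoc]; exact congrArg (· ≫ Xb.obj.hom) (hP.lift_fst _ _ _) |>.trans (Category.id_comp _)))
  have hjp : j ≫ p = 𝟙 Xb := ObjectProperty.hom_ext _ (Over.OverMorphism.ext (hP.lift_fst _ _ _))
  have hjq : j ≫ q = G := ObjectProperty.hom_ext _ (Over.OverMorphism.ext (hP.lift_snd _ _ _))
  have hdp : d ≫ p = 𝟙 Xb := ObjectProperty.hom_ext _ (Over.OverMorphism.ext (hP.lift_fst _ _ _))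
  have hdq : d ≫ q = 𝟙 Xb := ObjectProperty.hom_ext _ (Over.OverMorphism.ext (hP.lift_snd _ _ _))
  have h := tr_graph_diag_eq_nPts FXm hb hlem happ Xb π hπ G hG p q hP j d hjp hjq hdp hdq T hm
  rw [lefschetz T G hP j hjp hjq d hdp hdq] at h
  simp only [hpull] at h
  exact h.symm

/-- The zeta function in terms of the characteristic polynomials of Frobenius. -/
theorem zetaFun_eq [CharZero K] {X : Scheme.{u}} (f : X ⟶ Spec (CommRingCat.of k₀))
    (T : WeilCoh.TheoryOn.{u, v, w} k (WeilCoh.IsVar k) K) {Xb : WeilCoh.Var k} (F : Xb ⟶ Xb)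
    (h : ∀ m : ℕ, 0 < m → (Zeta.nPts f m : K) = ∑ i ∈ Finset.range (2 * WeilCoh.dim Xb.obj.left + 1),
      (-1 : K) ^ i * LinearMap.trace K ↥(T.gr Xb (i : ℤ)) (T.pullDeg F (i : ℤ) ^ m)) :
    PowerSeries.map (algebraMap ℚ K) (Zeta.zetaFun f) *
        (∏ i ∈ Finset.range (WeilCoh.dim Xb.obj.left + 1),
          ((LinearMap.charpoly (T.pullDeg F ((2 * i : ℕ) : ℤ))).reverse : PowerSeries K)) =
      ∏ i ∈ Finset.range (WeilCoh.dim Xb.obj.left),
        ((LinearMap.charpoly (T.pullDeg F ((2 * i + 1 : ℕ) : ℤ))).reverse : PowerSeries K) := by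
  classical
  let τ : ℕ → ℕ → K := fun i m => LinearMap.trace K ↥(T.gr Xb (i : ℤ)) (T.pullDeg F (i : ℤ) ^ m)
  let u : ℕ → PowerSeries K := fun i => ((LinearMap.charpoly (T.pullDeg F (i : ℤ))).reverse : PowerSeries K)
  let η : ℕ → PowerSeries K := fun i => PowerSeries.mk fun n => -τ i (n + 1)
  have hu : ∀ i, PowerSeries.coeff 0 (u i) = 1 ∧ d⁄dX K (u i) = u i * η i := fun i => by
    set b := Module.finBasis K ↥(T.gr Xb (i : ℤ))
    set A := LinearMap.toMatrix b b (T.pullDeg F (i : ℤ)) with hA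
    have hrev : u i = (A.charpolyRev : PowerSeries K) := by
      change ((LinearMap.charpoly (T.pullDeg F (i : ℤ))).reverse : PowerSeries K) = _
      rw [← LinearMap.charpoly_toMatrix (T.pullDeg F (i : ℤ)) b, Matrix.reverse_charpoly]
    have htr : ∀ m, τ i m = (A ^ m).trace := fun m => by
      change LinearMap.trace K _ _ = _
      rw [LinearMap.trace_eq_matrix_trace K b, hA, ← LinearMap.toMatrix_pow]
    refine ⟨?_, ?_⟩
    · rw [hrev, Polynomial.coeff_coe, Polynomial.coeff_zero_eq_eval_zero]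
      exact Matrix.eval_charpolyRev
    · simp only [η, htr]
      rw [hrev]
      exact Newton.derivative_charpolyRev A
  have hprod : ∀ (s : Finset ℕ) (e : ℕ → ℕ), PowerSeries.coeff 0 (∏ i ∈ s, u (e i)) = 1 ∧
      d⁄dX K (∏ i ∈ s, u (e i)) = (∏ i ∈ s, u (e i)) * ∑ i ∈ s, η (e i) := fun s e => by
    induction s using Finset.induction_on with
    | empty => simp
    | insert a s ha ih =>
      rw [Finset.prod_insert ha, Finset.sum_insert ha]
      refine ⟨?_, ?_⟩
      · rw [PowerSeries.coeff_zero_eq_constantCoeff_apply, map_mul, ← PowerSeries.coeff_zero_eq_constantCoeff_apply,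
          ← PowerSeries.coeff_zero_eq_constantCoeff_apply, (hu _).1, ih.1, mul_one]
      · rw [Derivation.leibniz, (hu _).2, ih.2, smul_eq_mul, smul_eq_mul]
        ring
  have hZ : d⁄dX ℚ (Zeta.zetaFun f) =
      Zeta.zetaFun f * PowerSeries.mk (fun n => (Zeta.nPts f (n + 1) : ℚ)) := by
    exact Newton.derivative_exp_subst fun m => (Zeta.nPts f m : ℚ)
  have hZ' : d⁄dX K (PowerSeries.map (algebraMap ℚ K) (Zeta.zetaFun f)) =
      PowerSeries.map (algebraMap ℚ K) (Zeta.zetaFun f) * PowerSeries.mk (fun n => (Zeta.nPts f (n + 1) : K)) := by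
    have := congrArg (PowerSeries.map (algebraMap ℚ K)) hZ
    rw [map_mul] at this
    convert this using 1
    · ext n; simp [PowerSeries.coeff_derivative]
    · congr 1; ext n; simp
  have hZ0 : PowerSeries.coeff 0 (PowerSeries.map (algebraMap ℚ K) (Zeta.zetaFun f)) = 1 := by
    rw [PowerSeries.coeff_map]
    have h0 : PowerSeries.coeff 0 (Zeta.zetaFun f) = 1 := by
      refine Newton.coeff_zero_exp_subst (K := ℚ) ?_
      simp [Zeta.logZeta]
    rw [h0, map_one]
  change PowerSeries.map (algebraMap ℚ K) (Zeta.zetaFun f) *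
      (∏ i ∈ Finset.range (WeilCoh.dim Xb.obj.left + 1), u (2 * i)) =
    ∏ i ∈ Finset.range (WeilCoh.dim Xb.obj.left), u (2 * i + 1)
  refine Newton.ext_of_logDeriv (h := ∑ i ∈ Finset.range (WeilCoh.dim Xb.obj.left), η (2 * i + 1)) ?_ ?_
    (hprod _ fun i => 2 * i + 1).2
  · rw [(hprod _ fun i => 2 * i + 1).1, PowerSeries.coeff_zero_eq_constantCoeff_apply, map_mul,
      ← PowerSeries.coeff_zero_eq_constantCoeff_apply, ← PowerSeries.coeff_zero_eq_constantCoeff_apply, hZ0,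
      (hprod _ fun i => 2 * i).1, mul_one]
  · rw [Derivation.leibniz, hZ', (hprod _ fun i => 2 * i).2, smul_eq_mul, smul_eq_mul, mul_assoc]
    rw [show (∑ i ∈ Finset.range (WeilCoh.dim Xb.obj.left), η (2 * i + 1)) =
        PowerSeries.mk (fun n => (Zeta.nPts f (n + 1) : K)) +
          ∑ i ∈ Finset.range (WeilCoh.dim Xb.obj.left + 1), η (2 * i) by
      ext n
      simp only [map_add, map_sum, η, PowerSeries.coeff_mk]
      rw [h (n + 1) n.succ_pos, sum_range_two_mul_add_one]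
      simp only [pow_succ, pow_mul, neg_one_sq, one_pow, one_mul, neg_mul, τ]
      simp [Finset.sum_neg_distrib]]
    ring

/-- A power series over `ℚ` which becomes rational over an extension field is rational. -/
theorem rational_of_map [CharZero K] (Z : PowerSeries ℚ) (A B : Polynomial K) (hB : B ≠ 0)
    (h : PowerSeries.map (algebraMap ℚ K) Z * (B : PowerSeries K) = (A : PowerSeries K)) :
    ∃ P Q : Polynomial ℚ, Q ≠ 0 ∧ Z * (Q : PowerSeries ℚ) = (P : PowerSeries ℚ) := by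
  classical
  obtain ⟨c, hc⟩ := Polynomial.support_nonempty.mpr hB
  obtain ⟨φ, hφ⟩ : ∃ φ : K →ₗ[ℚ] ℚ, φ (B.coeff c) ≠ 0 := by
    by_contra! hh
    exact Polynomial.mem_support_iff.mp hc ((Module.forall_dual_apply_eq_zero_iff ℚ _).mp hh)
  let pr : Polynomial K → Polynomial ℚ := fun R => ∑ j ∈ R.support, Polynomial.monomial j (φ (R.coeff j))
  have hpr : ∀ R j, (pr R).coeff j = φ (R.coeff j) := fun R j => by
    simp only [pr, Polynomial.finsetSum_coeff, Polynomial.coeff_monomial]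
    rw [Finset.sum_ite_eq']
    split_ifs with hj
    · rfl
    · rw [Polynomial.notMem_support_iff.mp hj, map_zero]
  refine ⟨pr A, pr B, fun h0 => ?_, ?_⟩
  · have := hpr B c
    rw [h0, Polynomial.coeff_zero] at this
    exact hφ this.symm
  · ext n
    have := congrArg φ (congrArg (PowerSeries.coeff n) h)
    rw [PowerSeries.coeff_mul, map_sum, Polynomial.coeff_coe] at this
    rw [PowerSeries.coeff_mul, Polynomial.coeff_coe, hpr, ← this]
    refine Finset.sum_congr rfl fun x _ => ?_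
    rw [Polynomial.coeff_coe, Polynomial.coeff_coe, hpr, PowerSeries.coeff_map, ← Algebra.smul_def, map_smul,
      smul_eq_mul]

end Groth.L11.Weil
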